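import Cfsg.Agent.Lib.Spor.RuL.Vec
import Cfsg.Agent.Lib.PG.Iso
import Cfsg.Agent.Lib.PG.Model

/-!
Automorphisms of the Conway–Wales lattice: construction from a frame and an upper bound for
their number.
-/

set_option autoImplicit false
set_option maxRecDepth 100000
set_option exponentiation.threshold 100000

namespace Cfsg.Agent.Spor.RuLat
open Cfsg Cfsg.Spor Cfsg.Agent.PG Finset

abbrev L : Type := ruLattice
abbrev G : Type := fourRu

theorem g_add (g : G) (v w : L) : g • (v + w) = g • v + g • w := g.2.1 v w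
theorem g_I (g : G) (v : L) : g • ruI v = ruI (g • v) := g.2.2.1 v
theorem g_norm (g : G) (v : L) : ruNorm ((g • v : L) : RuVec) = ruNorm (v : RuVec) := g.2.2.2 v

/-- an automorphism as an additive map -/
def gHom (g : G) : L →+ L := AddMonoidHom.mk' (fun v => g • v) (g_add g)

theorem g_dot (g : G) (v w : L) :
    dot (co ((g • v : L) : RuVec)) (co ((g • w : L) : RuVec)) = dot (co (v : RuVec)) (co (w : RuVec)) := by
  have h := g_norm g (v + w)
  rw [g_add, AddSubgroup.coe_add, AddSubgroup.coe_add, norm_add, norm_add, g_norm, g_norm] at h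
  omega

theorem g_ext {g h : G} (e : ∀ v : L, g • v = h • v) : g = h := Subtype.ext (Equiv.ext e)

theorem norm_gI_mul (z : GaussianInt) : (gI * z).norm = z.norm := by
  rw [Zsqrtd.norm_mul, show gI.norm = 1 by decide, one_mul]

theorem norm_I (x : RuVec) : ruNorm (gI • x) = ruNorm x :=
  sum_congr rfl fun p _ => norm_gI_mul (x p)

theorem norm_opF (o : ℕ) (x : RuVec) : ruNorm (opF o x) = ruNorm x := by
  unfold opF
  split_ifs
  · exact norm_I x
  · simp only [ruNorm, Fintype.sum_prod_type, Fin.sum_univ_four, ruRj, norm_gI_mul,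
      Zsqrtd.norm_neg]
    exact sum_congr rfl fun n _ => by ring
  · simp only [ruNorm, Fintype.sum_prod_type, Fin.sum_univ_four, ruRk, norm_gI_mul,
      Zsqrtd.norm_neg]
    exact sum_congr rfl fun n _ => by ring
  · refine sum_congr rfl fun p _ => ?_
    simp only [ruSign]; split_ifs
    · exact Zsqrtd.norm_neg _
    · rfl
  · simp only [ruNorm, Fintype.sum_prod_type, ruShift]
    exact Equiv.sum_comp (Equiv.addRight (1 : Fin 7)) fun n => ∑ t, (x (n, t)).norm

theorem L_le_min {S : AddSubgroup RuVec} (h : ∀ x ∈ ruLattice, ruNorm x = 16 → x ∈ S) :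
    ruLattice ≤ S := by
  have h1 : allL ruTable (fun v => decide (ruNorm v = 16)) = true := by decide +kernel
  refine le_trans (closed_of (S := AddSubgroup.closure {x | x ∈ ruLattice ∧ ruNorm x = 16})
    (fun v hv => AddSubgroup.subset_closure
      ⟨table_mem hv, of_decide_eq_true (allL_spec h1 v hv)⟩) fun o _ v hv => ?_)
    ((AddSubgroup.closure_le _).2 fun x hx => h x hx.1 hx.2)
  refine ((AddSubgroup.closure_le (K := (AddSubgroup.closure
    {x | x ∈ ruLattice ∧ ruNorm x = 16}).comap (opH o))).2 fun x hx => ?_) hv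
  exact AddSubgroup.subset_closure ⟨opF_mem o hx.1, (norm_opF o x).trans hx.2⟩

theorem L_induction {S : AddSubgroup L} (h : ∀ x : L, ruNorm (x : RuVec) = 16 → x ∈ S) :
    S = ⊤ := by
  rw [eq_top_iff]
  intro x _
  obtain ⟨y, hy, e⟩ := L_le_min (S := S.map ruLattice.subtype)
    (fun z hz hn => ⟨⟨z, hz⟩, h _ hn, rfl⟩) x.2
  rwa [← (Subtype.ext e : y = x)]

open Classical in
/-- the lattice vector in lane `j` -/
noncomputable def y (j : ℕ) : L := if h : Y j ∈ ruLattice then ⟨Y j, h⟩ else 0

theorem coe_y {j : ℕ} (hj : (lanes 0).testBit j = true) : (y j : RuVec) = Y j := by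
  rw [y, dif_pos (MM_le_L (Y_mem hj))]

theorem classifyL {v : L} (h : ruNorm (v : RuVec) = 16) :
    ∃ j, (lanes 0).testBit j = true ∧ v = y j := by
  obtain ⟨j, hj, e⟩ := classify (L_le_MM v.2) h.le (by
    intro e; rw [e, norm_zero'] at h; omega)
  exact ⟨j, hj, Subtype.ext (by rw [coe_y hj, e])⟩

theorem finite_min : {v : L | ruNorm (v : RuVec) = 16}.Finite :=
  ((bset_finite (lanes 0)).image y).subset fun _ hv =>
    (classifyL hv).imp fun _ h => ⟨h.1, h.2.symm⟩

theorem exists_of_hom (φ : L →+ L) (hI : ∀ v, φ (ruI v) = ruI (φ v))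
    (h : ∀ v, ruNorm ((φ v : L) : RuVec) = ruNorm (v : RuVec)) : ∃ g : G, ∀ v, g • v = φ v := by
  have hi : Function.Injective φ := (injective_iff_map_eq_zero φ).2 fun v hv =>
    Subtype.ext (eq_zero_of_norm (by rw [← h, hv]; exact norm_zero'))
  have hs : Function.Surjective φ := by
    rw [← AddMonoidHom.range_eq_top]
    refine L_induction fun x hx => ?_
    have := (finite_min.injOn_iff_bijOn_of_mapsTo (f := φ)
      (fun v hv => (h v).trans hv)).1 hi.injOn
    obtain ⟨v, _, e⟩ := this.surjOn hx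
    exact ⟨v, e⟩
  exact ⟨⟨Equiv.ofBijective φ ⟨hi, hs⟩, φ.map_add, hI, h⟩, fun _ => rfl⟩

instance finite_G : Finite G := by
  have := finite_min.to_subtype
  refine Finite.of_injective (fun (g : G) (k : {v : L | ruNorm (v : RuVec) = 16}) =>
    (⟨g • k.1, (g_norm g _).trans k.2⟩ : {v : L | ruNorm (v : RuVec) = 16}))
    fun g h e => g_ext fun v => ?_
  have := L_induction (S := (gHom g).eqLocus (gHom h)) fun x hx =>
    congrArg Subtype.val (congrFun e ⟨x, hx⟩)
  exact (this ▸ AddSubgroup.mem_top v : v ∈ (gHom g).eqLocus (gHom h))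

/-- the complex linear map with the given columns -/
def Fm (c : ℕ → RuVec) : RuVec →+ RuVec where
  toFun x := ∑ m ∈ range 28, x (idx m) • c m
  map_zero' := by simp
  map_add' x y := by simp [add_smul, sum_add_distrib]

theorem Fm_I (c : ℕ → RuVec) (x : RuVec) : Fm c (gI • x) = gI • Fm c x := by
  show ∑ m ∈ range 28, (gI • x) (idx m) • c m = gI • ∑ m ∈ range 28, x (idx m) • c m
  rw [smul_sum]
  exact sum_congr rfl fun m _ => by rw [Pi.smul_apply, smul_eq_mul, mul_smul]

theorem gauss_smul (z : GaussianInt) (v : RuVec) : z • v = z.re • v + z.im • gI • v := by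
  funext p
  ext <;> simp [gI] <;> ring

theorem co_Fm {c W : ℕ → RuVec} (h : ∀ m < 28, W (2 * m) = c m ∧ W (2 * m + 1) = gI • c m)
    (x : RuVec) (l : ℕ) : co (Fm c x) l = dot (fun k => co (W k) l) (co x) := by
  show co (∑ m ∈ range 28, x (idx m) • c m) l = _
  rw [co_sum, dot, show 56 = 2 * 28 by rfl, sum_pairs]
  refine sum_congr rfl fun m hm => ?_
  obtain ⟨a, b⟩ := h m (mem_range.1 hm)
  rw [gauss_smul, co_add, co_zsmul, co_zsmul, a, b, co_even x, co_odd x]; ring

theorem norm_Fm {c W : ℕ → RuVec} (h : ∀ m < 28, W (2 * m) = c m ∧ W (2 * m + 1) = gI • c m)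
    (ho : ∀ k < 56, ∀ l < 56, dot (co (W k)) (co (W l)) = if l = k then 16 else 0) (x : RuVec) :
    ruNorm (Fm c x) = 4 ^ 2 * ruNorm x := by
  have e : Fm c x = ∑ k ∈ range 56, co x k • W k := ext_co fun l _ => by
    rw [co_Fm h, co_sum, dot]
    exact sum_congr rfl fun k _ => by rw [co_zsmul, mul_comm]
  have h1 : ∀ k < 56, dot (co (W k)) (co (Fm c x)) = 16 * co x k := by
    intro k hk
    rw [e, dot_sum, sum_eq_single_of_mem k (mem_range.2 hk), dot_zsmul, ho k hk k hk, if_pos rfl,
      mul_comm]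
    intro l hl hne
    rw [dot_zsmul, ho k hk l (mem_range.1 hl), if_neg hne, mul_zero]
  rw [norm_eq, norm_eq]
  conv_lhs => enter [2]; rw [e]
  rw [dot_sum, dot, mul_sum]
  refine sum_congr rfl fun k hk => ?_
  rw [dot_zsmul, dot_comm, h1 k (mem_range.1 hk)]; ring

theorem exists_gen {c : ℕ → RuVec}
    (h1 : ∀ x ∈ ruLattice, ruNorm x = 16 → ∃ z ∈ ruLattice, Fm c x = (4 : ℤ) • z)
    (h2 : ∀ x, ruNorm (Fm c x) = 4 ^ 2 * ruNorm x) :
    ∃ g : G, ∀ v : L, (4 : ℤ) • ((g • v : L) : RuVec) = Fm c v := by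
  have hd : (4 : ℤ) ≠ 0 := by norm_num
  have h3 := L_le_min (S := (ruLattice.map (DistribSMul.toAddMonoidHom RuVec (4 : ℤ))).comap (Fm c))
    fun x hx hn => (h1 x hx hn).imp fun y hy => ⟨hy.1, hy.2.symm⟩
  have h4 : ∀ v : L, ∃ y : L, (4 : ℤ) • (y : RuVec) = Fm c v := fun v => by
    obtain ⟨y, hy, e⟩ := h3 v.2
    exact ⟨⟨y, hy⟩, e⟩
  choose φ hφ using h4
  obtain ⟨g, hg⟩ := exists_of_hom (AddMonoidHom.mk' φ fun v w => Subtype.ext
    (smul_right_injective RuVec hd (by
      simp only [AddSubgroup.coe_add, smul_add, hφ, map_add])))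
    (fun v => Subtype.ext (smul_right_injective RuVec hd (by
      show (4 : ℤ) • (φ (ruI v) : RuVec) = (4 : ℤ) • gI • (φ v : RuVec)
      rw [hφ, smul_comm, hφ]; exact Fm_I c v))) fun v => by
    have := h2 v
    rw [← hφ, norm_zsmul] at this
    exact mul_left_cancel₀ (pow_ne_zero 2 hd) this
  exact ⟨g, fun v => by rw [hg]; exact hφ v⟩

/-! scalars and lines -/

theorem exists_iota : ∃ g : G, ∀ v, g • v = ruI v :=
  exists_of_hom (AddMonoidHom.mk' ruI fun v w => Subtype.ext (smul_add gI (v : RuVec) w))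
    (fun _ => rfl) fun v => norm_I v

/-- multiplication by `i` -/
noncomputable def iota : G := exists_iota.choose

theorem iota_smul (v : L) : iota • v = ruI v := exists_iota.choose_spec v

theorem iota_comm (g : G) : g * iota = iota * g :=
  g_ext fun v => by rw [mul_smul, mul_smul, iota_smul, iota_smul, g_I]

theorem iota_sq (v : L) : iota ^ 2 • v = -v := by
  rw [sq, mul_smul, iota_smul, iota_smul]; exact Subtype.ext (gI_gI _)

theorem orderOf_iota : orderOf iota = 4 := by
  refine orderOf_eq_prime_pow (p := 2) (n := 1) (fun h => ?_) (g_ext fun v => ?_)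
  · have h1 := iota_sq ⟨fr 0, fr_mem (by omega)⟩
    rw [show iota ^ 2 = 1 from h, one_smul] at h1
    have h2 := congrArg (fun v : L => co (v : RuVec) 0) h1
    simp only [AddSubgroup.coe_neg, co_neg, fr, co_ofF _ (show 0 < 56 by omega)] at h2
    simp at h2
  · rw [show 2 ^ (1 + 1) = 2 + 2 by rfl, pow_add, mul_smul, iota_sq, iota_sq, neg_neg, one_smul]

/-- the unit scalars -/
noncomputable abbrev ZZ : Subgroup G := Subgroup.zpowers iota

theorem ZZ_le : ZZ ≤ Subgroup.center G :=
  (Subgroup.zpowers_le (H := Subgroup.center G)).2 (Subgroup.mem_center_iff.2 iota_comm)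

instance ZZ_normal : ZZ.Normal :=
  ⟨fun z hz g => by rw [Subgroup.mem_center_iff.1 (ZZ_le hz) g, mul_inv_cancel_right]; exact hz⟩

theorem card_ZZ : Nat.card ZZ = 4 := by rw [Nat.card_zpowers, orderOf_iota]

/-- the unit multiples of a vector -/
def line (v : L) : Set L := MulAction.orbit ZZ v

open Pointwise in
theorem smul_line (g : G) (v : L) : g • line v = line (g • v) := by
  have : ∀ z : ZZ, g • z • v = z • g • v := fun z => by
    show g • (z : G) • v = (z : G) • g • v
    rw [← mul_smul, ← mul_smul, Subgroup.mem_center_iff.1 (ZZ_le z.2) g]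
  ext w
  constructor
  · rintro ⟨_, ⟨z, rfl⟩, rfl⟩; exact ⟨z, (this z).symm⟩
  · rintro ⟨z, rfl⟩; exact ⟨_, ⟨z, rfl⟩, this z⟩

theorem line_Z {z : G} (hz : z ∈ ZZ) (v : L) : line (z • v) = line v :=
  MulAction.orbit_smul (⟨z, hz⟩ : ZZ) v

theorem y_sh {j : ℕ} (hj : (lanes 0).testBit j = true) : y (sh j) = iota • y j := by
  rw [iota_smul]
  refine Subtype.ext ?_
  show _ = gI • (y j : RuVec)
  rw [coe_y hj, coe_y (sh_lanes hj), Y_sh ((testBit_lanes _ _).1 hj).1]

theorem lane_ind {R : ℕ → Prop} (h : ∀ j, (lanes 0).testBit j = true → (R (sh j) ↔ R j)) {u i : ℕ}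
    (hu : u < 4) (hi : i < 4060) : R (u * 4096 + i) ↔ R i := by
  induction u with
  | zero => simp
  | succ u ih =>
    rw [← ih (by omega), ← h (u * 4096 + i) ((testBit_lanes _ _).2 (by omega)),
      show sh (u * 4096 + i) = (u + 1) * 4096 + i by
        show (u * 4096 + i + 4096) % 16384 = _; omega]

theorem line_lane {u i : ℕ} (hu : u < 4) (hi : i < 4060) : line (y (u * 4096 + i)) = line (y i) :=
  (lane_ind (R := fun j => line (y j) = line (y i)) (fun j hj => by
    rw [y_sh hj, line_Z (Subgroup.mem_zpowers _)]) hu hi).2 rfl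

/-! the upper bound -/

/-- the mask is invariant under `H` -/
def Inv (H : Subgroup G) (m : ℕ) : Prop := ∀ g ∈ H, ∀ j j', (lanes 0).testBit j = true →
  (lanes 0).testBit j' = true → g • y j = y j' → m.testBit j' = m.testBit j

/-- the lanes that lie in the same masks as `v` -/
noncomputable def cell (ms : List ℕ) (v B : ℕ) : ℕ :=
  List.rec (motive := fun _ => ℕ) B (fun m _ ih => force ih fun b => force (Nat.land b m) fun c =>
    iteB (bit m v) c (Nat.xor b c)) ms

theorem mem_cell {ms : List ℕ} {v B j : ℕ} (hB : B.testBit j = true)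
    (h : ∀ m ∈ ms, m.testBit j = m.testBit v) : (cell ms v B).testBit j = true := by
  induction ms with
  | nil => exact hB
  | cons m ms ih =>
    show (force (cell ms v B) fun b => force (b &&& m) fun c =>
      iteB (bit m v) c (b ^^^ c)).testBit j = true
    have h1 := ih fun m hm => h m (List.mem_cons_of_mem _ hm)
    have h2 := h m List.mem_cons_self
    rw [force_eq, force_eq, bit_eq, ← h2]
    cases hm : m.testBit j
    · rw [iteB_false, Nat.testBit_xor, Nat.testBit_and, h1, hm]; rfl
    · rw [iteB_true, Nat.testBit_and, h1, hm]; rfl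

/-- the lanes with given inner product with lane `f` -/
noncomputable def mz (B f : ℕ) (c : ℤ) : ℕ := zeroM B (rowN (Yp PL f) 56 [c]) (PL ++ [[B]])

theorem inv_mz {H : Subgroup G} {f : ℕ} (hf : (lanes 0).testBit f = true)
    (hH : ∀ g ∈ H, g • y f = y f) (c : ℤ) : Inv H (mz (lanes 0) f c) := by
  have key : ∀ j, (lanes 0).testBit j = true → ((mz (lanes 0) f c).testBit j = true ↔
      dot (co (y f : RuVec)) (co (y j : RuVec)) + c = 0) := by
    intro j hj
    rw [mz, zeroM_spec, lin_PL, lin_cons, colVal_single hj, coe_y hf, coe_y hj,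
      dot_congr (fun k hk => co_Y f hk) fun _ _ => rfl, show lin [] [] j = 0 from rfl]
    simp [hj]
  intro g hg j j' hj hj' e
  rw [Bool.eq_iff_iff, key j hj, key j' hj', ← e, ← g_dot g (y f) (y j), hH g hg]

theorem orbit_cell {H : Subgroup G} {ms : List ℕ} (h : ∀ m ∈ ms, Inv H m) {v : ℕ}
    (hv : (lanes 0).testBit v = true) (hn : ruNorm (Y v) = 16) {g : G} (hg : g ∈ H) :
    ∃ j, (cell ms v (lanes 0)).testBit j = true ∧ y j = g • y v := by
  obtain ⟨j, hj, e⟩ := classifyL (v := g • y v) (by rw [g_norm, coe_y hv, hn])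
  exact ⟨j, mem_cell hj fun m hm => h m hm g hg v j hv hj e, e.symm⟩

/-- the check of the upper bound -/
noncomputable def ubRun (B : ℕ) (st : List (ℕ × ℕ)) : List ℕ → Bool :=
  List.rec (motive := fun _ => List ℕ → Bool)
    (fun ms => allN 56 fun k => force (nthD 0 frP k) fun v =>
      subB (cell ms v B) (Nat.shiftLeft 1 v))
    (fun q _ ih ms => andB (andB (bit B q.1) (decide (ruNorm (Y q.1) = 16)))
      (andB (force (cell ms q.1 B) fun C => cardB 11 C q.2)
        (force (mz B q.1 0) fun a => force (mz B q.1 4) fun b => force (mz B q.1 (-4)) fun c =>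
          force (sh q.1) fun s => force (mz B s 0) fun d => force (mz B s 4) fun e =>
            force (mz B s (-4)) fun f => ih (a :: b :: c :: d :: e :: f :: ms)))) st

theorem ubRun_spec {st : List (ℕ × ℕ)} {ms : List ℕ} (h : ubRun (lanes 0) st ms = true)
    {H : Subgroup G} (hH : ∀ m ∈ ms, Inv H m) : Nat.card H ≤ (st.map Prod.snd).prod := by
  induction st generalizing ms H with
  | nil =>
    have : H = ⊥ := by
      rw [eq_bot_iff]
      intro g hg
      have h1 : ∀ k < 56, g • y (nthD 0 frP k) = y (nthD 0 frP k) := by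
        intro k hk
        have h2 := allN_spec (show allN 56 (fun k => force (nthD 0 frP k) fun v =>
          subB (cell ms v (lanes 0)) (Nat.shiftLeft 1 v)) = true from h) k hk
        rw [force_eq] at h2
        obtain ⟨j, hj, e⟩ := orbit_cell hH (Y_fr hk).1.1 (by rw [(Y_fr hk).1.2, norm_fr hk]) hg
        rw [← e, (testBit_shl_one _ _).1 (subB_spec h2 hj)]
      refine g_ext fun v => ?_
      have h2 : (4 : ℤ) • v = ∑ k ∈ range 56, co (v : RuVec) k • y (nthD 0 frP k) := by
        refine Subtype.ext ?_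
        rw [AddSubgroupClass.coe_zsmul, four_eq, AddSubgroup.val_finsetSum]
        refine sum_congr rfl fun k hk => ?_
        rw [AddSubgroupClass.coe_zsmul, coe_y (Y_fr (mem_range.1 hk)).1.1,
          (Y_fr (mem_range.1 hk)).1.2]
      have h3 : gHom g ((4 : ℤ) • v) = (4 : ℤ) • v := by
        rw [h2, map_sum]
        exact sum_congr rfl fun k hk => by
          rw [map_zsmul]; exact congrArg _ (h1 k (mem_range.1 hk))
      rw [map_zsmul] at h3
      have h4 := congrArg Subtype.val h3
      rw [one_smul]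
      exact Subtype.ext (smul_right_injective RuVec (show (4 : ℤ) ≠ 0 by norm_num) h4)
    rw [this]; simp
  | cons q st ih =>
    have h' : andB (andB (bit (lanes 0) q.1) (decide (ruNorm (Y q.1) = 16)))
      (andB (force (cell ms q.1 (lanes 0)) fun C => cardB 11 C q.2)
        (force (mz (lanes 0) q.1 0) fun a => force (mz (lanes 0) q.1 4) fun b =>
          force (mz (lanes 0) q.1 (-4)) fun c =>
          force (sh q.1) fun s => force (mz (lanes 0) s 0) fun d =>
            force (mz (lanes 0) s 4) fun e => force (mz (lanes 0) s (-4)) fun f =>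
              ubRun (lanes 0) st (a :: b :: c :: d :: e :: f :: ms))) = true := h
    simp only [andB_eq, Bool.and_eq_true, force_eq, bit_eq, decide_eq_true_eq] at h'
    obtain ⟨⟨hv, hn⟩, hc, hr⟩ := h'
    have f1 : ∀ g ∈ H ⊓ MulAction.stabilizer G (y q.1), g • y q.1 = y q.1 := fun g hg => hg.2
    have f2 : ∀ g ∈ H ⊓ MulAction.stabilizer G (y q.1), g • y (sh q.1) = y (sh q.1) := by
      intro g hg
      rw [y_sh hv, ← mul_smul, iota_comm, mul_smul, f1 g hg]
    have h1 := ih hr (H := H ⊓ MulAction.stabilizer G (y q.1)) (by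
      intro m hm
      simp only [List.mem_cons] at hm
      rcases hm with rfl | rfl | rfl | rfl | rfl | rfl | hm
      · exact inv_mz hv f1 _
      · exact inv_mz hv f1 _
      · exact inv_mz hv f1 _
      · exact inv_mz (sh_lanes hv) f2 _
      · exact inv_mz (sh_lanes hv) f2 _
      · exact inv_mz (sh_lanes hv) f2 _
      · exact fun g hg => hH m hm g hg.1)
    rw [card_eq_orbit_mul' H (y q.1), List.map_cons, List.prod_cons]
    refine Nat.mul_le_mul ?_ h1
    rw [← cardB_spec hc]
    refine le_trans (Set.ncard_le_ncard (t := y '' bset (cell ms q.1 (lanes 0))) ?_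
      ((bset_finite _).image _)) (Set.ncard_image_le (bset_finite _))
    rintro _ ⟨g, hg, rfl⟩
    exact orbit_cell hH hv hn hg

theorem card_G_le : Nat.card G ≤ 145926144000 * 4 := by
  have h : force (lanes 0) (fun B => ubRun B [(0, 16240), (1, 7020), (28, 320), (1188, 8),
    (2230, 2), (73, 1), (934, 1), (1476, 1), (3010, 1), (3043, 1), (2490, 1), (1828, 1)] []) =
      true := by decide +kernel
  rw [force_eq] at h
  have := ubRun_spec h (H := ⊤) (fun m hm => by cases hm)
  rw [Subgroup.card_top] at this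
  exact this.trans (by decide)

end Cfsg.Agent.Spor.RuLat
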