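import Cfsg.Prelude.Def_Spor_Ru
import Cfsg.Agent.Lib.PG.Slice

/-!
The Conway–Wales lattice: real coordinates and residues modulo four as pairs of bit masks.
-/

set_option autoImplicit false

namespace Cfsg.Agent.Spor.RuLat
open Cfsg Cfsg.Spor Cfsg.Agent.PG Finset

/-- complex coordinate number `m` -/
def idx (m : ℕ) : RuIdx := (Fin.ofNat 7 (m / 4), Fin.ofNat 4 m)

/-- real coordinate number `k` -/
def co (x : RuVec) (k : ℕ) : ℤ :=
  if k % 2 = 0 then (x (idx (k / 2))).re else (x (idx (k / 2))).im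

/-- the vector with the given real coordinates -/
def ofF (f : ℕ → ℤ) : RuVec := fun p =>
  ⟨f (8 * p.1.val + 2 * p.2.val), f (8 * p.1.val + 2 * p.2.val + 1)⟩

theorem idx_val {m : ℕ} (h : m < 28) : 4 * (idx m).1.val + (idx m).2.val = m := by
  simp only [idx, Fin.val_ofNat]; omega

theorem idx_of (p : RuIdx) : idx (4 * p.1.val + p.2.val) = p := by
  obtain ⟨a, b⟩ := p
  have := a.2; have := b.2
  refine Prod.ext (Fin.ext ?_) (Fin.ext ?_) <;> simp only [idx, Fin.val_ofNat] <;> omega

theorem co_even (x : RuVec) (m : ℕ) : co x (2 * m) = (x (idx m)).re := by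
  unfold co; rw [if_pos (by omega), show 2 * m / 2 = m by omega]

theorem co_odd (x : RuVec) (m : ℕ) : co x (2 * m + 1) = (x (idx m)).im := by
  unfold co; rw [if_neg (by omega), show (2 * m + 1) / 2 = m by omega]

theorem co_ofF (f : ℕ → ℤ) {k : ℕ} (h : k < 56) : co (ofF f) k = f k := by
  have := idx_val (m := k / 2) (by omega)
  unfold co ofF
  split_ifs with h2
  · show f _ = f _; congr 1; omega
  · show f _ = f _; congr 1; omega

theorem ext_co {x y : RuVec} (h : ∀ k < 56, co x k = co y k) : x = y := by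
  funext p
  have h1 := p.1.2; have h2 := p.2.2
  have a := h (2 * (4 * p.1.val + p.2.val)) (by omega)
  have b := h (2 * (4 * p.1.val + p.2.val) + 1) (by omega)
  rw [co_even, co_even, idx_of] at a
  rw [co_odd, co_odd, idx_of] at b
  exact Zsqrtd.ext a b

theorem co_zero (k : ℕ) : co 0 k = 0 := by unfold co; split_ifs <;> rfl
theorem co_add (x y : RuVec) (k : ℕ) : co (x + y) k = co x k + co y k := by
  unfold co; split_ifs <;> rfl
theorem co_neg (x : RuVec) (k : ℕ) : co (-x) k = -co x k := by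
  unfold co; split_ifs <;> rfl
theorem co_sub (x y : RuVec) (k : ℕ) : co (x - y) k = co x k - co y k := by
  rw [sub_eq_add_neg, co_add, co_neg, sub_eq_add_neg]

/-- a coordinate as an additive map -/
def coH (k : ℕ) : RuVec →+ ℤ where
  toFun x := co x k
  map_zero' := co_zero k
  map_add' x y := co_add x y k

theorem co_zsmul (c : ℤ) (x : RuVec) (k : ℕ) : co (c • x) k = c * co x k :=
  (coH k).map_zsmul c x

theorem co_sum {ι : Type} (s : Finset ι) (f : ι → RuVec) (k : ℕ) :
    co (∑ i ∈ s, f i) k = ∑ i ∈ s, co (f i) k := map_sum (coH k) f s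

theorem co_I_even (x : RuVec) (m : ℕ) : co (gI • x) (2 * m) = -co x (2 * m + 1) := by
  rw [co_even, co_odd]; simp [gI]

theorem co_I_odd (x : RuVec) (m : ℕ) : co (gI • x) (2 * m + 1) = co x (2 * m) := by
  rw [co_even, co_odd]; simp [gI]

theorem gI_gI (x : RuVec) : gI • gI • x = -x := by
  rw [smul_smul, show gI * gI = -1 by decide, neg_smul, one_smul]

/-- the inner product of the first 56 coordinates -/
def dot (f g : ℕ → ℤ) : ℤ := ∑ k ∈ range 56, f k * g k

theorem sum_pairs (h : ℕ → ℤ) (n : ℕ) :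
    ∑ k ∈ range (2 * n), h k = ∑ m ∈ range n, (h (2 * m) + h (2 * m + 1)) := by
  induction n with
  | zero => simp
  | succ n ih => rw [show 2 * (n + 1) = 2 * n + 1 + 1 by ring, sum_range_succ, sum_range_succ, ih,
      sum_range_succ]; ring

theorem sum_idx {β : Type} [AddCommMonoid β] (F : RuIdx → β) :
    ∑ p, F p = ∑ m ∈ range 28, F (idx m) := by
  refine Finset.sum_nbij' (fun p => 4 * p.1.val + p.2.val) idx ?_ ?_ ?_ ?_ ?_
  · intro p _; have := p.1.2; have := p.2.2; simp only [mem_range]; omega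
  · intro m _; exact mem_univ _
  · intro p _; exact idx_of p
  · intro m hm; exact idx_val (mem_range.1 hm)
  · intro p _; rw [idx_of]

theorem norm_eq (x : RuVec) : ruNorm x = dot (co x) (co x) := by
  unfold ruNorm dot
  rw [sum_idx, show 56 = 2 * 28 by rfl, sum_pairs]
  refine sum_congr rfl fun m _ => ?_
  rw [co_even, co_odd, Zsqrtd.norm_def]; ring

theorem dot_comm (f g : ℕ → ℤ) : dot f g = dot g f :=
  sum_congr rfl fun _ _ => mul_comm _ _

theorem dot_congr {f f' g g' : ℕ → ℤ} (h : ∀ k < 56, f k = f' k) (h' : ∀ k < 56, g k = g' k) :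
    dot f g = dot f' g' :=
  sum_congr rfl fun k hk => by rw [h k (mem_range.1 hk), h' k (mem_range.1 hk)]

/-- inner product with a fixed vector as an additive map -/
def dotH (f : ℕ → ℤ) : RuVec →+ ℤ where
  toFun x := dot f (co x)
  map_zero' := by simp [dot, co_zero]
  map_add' x y := by simp [dot, co_add, mul_add, sum_add_distrib]

theorem dot_add (f : ℕ → ℤ) (x y : RuVec) : dot f (co (x + y)) = dot f (co x) + dot f (co y) :=
  (dotH f).map_add x y
theorem dot_sub (f : ℕ → ℤ) (x y : RuVec) : dot f (co (x - y)) = dot f (co x) - dot f (co y) :=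
  (dotH f).map_sub x y
theorem dot_neg (f : ℕ → ℤ) (x : RuVec) : dot f (co (-x)) = -dot f (co x) := (dotH f).map_neg x
theorem dot_zsmul (f : ℕ → ℤ) (c : ℤ) (x : RuVec) : dot f (co (c • x)) = c * dot f (co x) :=
  (dotH f).map_zsmul c x
theorem dot_sum {ι : Type} (f : ℕ → ℤ) (s : Finset ι) (x : ι → RuVec) :
    dot f (co (∑ i ∈ s, x i)) = ∑ i ∈ s, dot f (co (x i)) := map_sum (dotH f) x s

theorem norm_add (x y : RuVec) :
    ruNorm (x + y) = ruNorm x + 2 * dot (co x) (co y) + ruNorm y := by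
  rw [norm_eq, norm_eq, norm_eq, dot_add, dot_comm _ (co x), dot_comm _ (co y), dot_add, dot_add,
    dot_comm (co y) (co x)]
  ring

theorem norm_zsmul (c : ℤ) (x : RuVec) : ruNorm (c • x) = c ^ 2 * ruNorm x := by
  rw [norm_eq, norm_eq, dot_zsmul, dot_comm, dot_zsmul]; ring

theorem norm_neg' (x : RuVec) : ruNorm (-x) = ruNorm x := by
  rw [← neg_one_zsmul, norm_zsmul]; ring

theorem norm_zero' : ruNorm 0 = 0 := by simp [ruNorm]

theorem norm_nonneg' (x : RuVec) : 0 ≤ ruNorm x := by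
  rw [norm_eq]; exact sum_nonneg fun k _ => mul_self_nonneg _

theorem sq_le_norm (x : RuVec) {k : ℕ} (hk : k < 56) : co x k * co x k ≤ ruNorm x := by
  rw [norm_eq]
  exact single_le_sum (f := fun k => co x k * co x k) (fun k _ => mul_self_nonneg _)
    (mem_range.2 hk)

theorem eq_zero_of_norm {x : RuVec} (h : ruNorm x = 0) : x = 0 :=
  ext_co fun k hk => by
    have := sq_le_norm x hk
    rw [co_zero]; nlinarith [mul_self_nonneg (co x k)]

/-! masks -/

/-- indicator of a bit -/
def ind (a k : ℕ) : ℤ := ((a.testBit k).toNat : ℤ)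

theorem ind_of_true {a k : ℕ} (h : a.testBit k = true) : ind a k = 1 := by simp [ind, h]
theorem ind_of_false {a k : ℕ} (h : a.testBit k = false) : ind a k = 0 := by simp [ind, h]

/-- the vector with entries in `0, 1, 2, 3` given by two masks -/
def v4 (o : ℕ × ℕ) (k : ℕ) : ℤ := ind o.1 k + 2 * ind o.2 k

/-- number of bits among the first 56 -/
noncomputable def pc (v : ℕ) : ℕ := popc 3 (Nat.land v 0xffffffffffffff)

theorem pc_eq (v : ℕ) : (pc v : ℤ) = ∑ k ∈ range 56, ind v k := by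
  have h : v &&& 0xffffffffffffff < 2 ^ (8 * 2 ^ 3) :=
    lt_of_le_of_lt Nat.and_le_right (by norm_num)
  have e : pc v = cnt 64 (v &&& (2 ^ 56 - 1)) := popc_spec 3 _ h
  rw [e, cnt, card_filter, show 64 = 56 + 8 by rfl, sum_range_add, Nat.cast_add, Nat.cast_sum,
    Nat.cast_sum]
  rw [sum_eq_zero (s := range 8), add_zero]
  · refine sum_congr rfl fun k hk => ?_
    rw [Nat.testBit_and, Nat.testBit_two_pow_sub_one, decide_eq_true (mem_range.1 hk), ind]
    cases v.testBit k <;> simp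
  · intro k _
    rw [Nat.testBit_and, Nat.testBit_two_pow_sub_one, decide_eq_false (by omega)]; simp

/-- inner product modulo four -/
noncomputable def dot4 (o p : ℕ × ℕ) : ℕ :=
  Nat.add (pc (Nat.land o.1 p.1)) (Nat.mul 2 (pc (Nat.xor (Nat.land o.1 p.2) (Nat.land o.2 p.1))))

theorem dot4_spec (o p : ℕ × ℕ) : (4 : ℤ) ∣ dot (v4 o) (v4 p) - dot4 o p := by
  have : ((dot4 o p : ℕ) : ℤ) = (pc (o.1 &&& p.1) : ℤ) +
      2 * (pc ((o.1 &&& p.2) ^^^ (o.2 &&& p.1)) : ℤ) := by
    show ((pc _ + 2 * pc _ : ℕ) : ℤ) = _; push_cast; rfl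
  rw [this, pc_eq, pc_eq, dot, mul_sum, ← sum_add_distrib, ← sum_sub_distrib]
  refine dvd_sum fun k _ => ?_
  simp only [v4, ind, Nat.testBit_and, Nat.testBit_xor]
  cases o.1.testBit k <;> cases o.2.testBit k <;> cases p.1.testBit k <;> cases p.2.testBit k <;>
    decide

/-- the residues modulo four of `x` are given by `o` -/
def Rep (x : RuVec) (o : ℕ × ℕ) : Prop := ∀ k < 56, (4 : ℤ) ∣ co x k - v4 o k

theorem Rep.dot {x : RuVec} {o : ℕ × ℕ} (h : Rep x o) (f : ℕ → ℤ) :
    (4 : ℤ) ∣ dot f (co x) - dot f (v4 o) := by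
  unfold RuLat.dot
  rw [← sum_sub_distrib]
  refine dvd_sum fun k hk => ?_
  rw [← mul_sub]; exact Dvd.dvd.mul_left (h k (mem_range.1 hk)) _

theorem rep_ofF (o : ℕ × ℕ) : Rep (ofF (v4 o)) o := fun k hk => by rw [co_ofF _ hk]; simp

/-- the mask of a predicate -/
noncomputable def mk (f : ℕ → Bool) (n : ℕ) : ℕ :=
  Nat.rec (motive := fun _ => ℕ) 0
    (fun n ih => iteB (f n) (Nat.lor ih (Nat.shiftLeft 1 n)) ih) n

theorem testBit_mk (f : ℕ → Bool) (n i : ℕ) : (mk f n).testBit i = (decide (i < n) && f i) := by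
  induction n with
  | zero => show (0 : ℕ).testBit i = _; simp
  | succ n ih =>
    show (iteB (f n) (mk f n ||| Nat.shiftLeft 1 n) (mk f n)).testBit i = _
    have h1 := testBit_shl_one n i
    by_cases e : i = n
    · subst e
      cases hf : f i
      · rw [iteB_false, ih, hf]; simp
      · rw [iteB_true, Nat.testBit_or, h1.2 rfl]; simp
    · have h2 : (Nat.shiftLeft 1 n).testBit i = false := by
        rw [← Bool.not_eq_true, h1]; exact e
      have h3 : decide (i < n + 1) = decide (i < n) := by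
        rw [decide_eq_decide]; omega
      cases f n
      · rw [iteB_false, ih, h3]
      · rw [iteB_true, Nat.testBit_or, ih, h2, h3, Bool.or_false]

theorem mk_lt (f : ℕ → Bool) (n : ℕ) : mk f n < 2 ^ n :=
  Nat.lt_pow_two_of_testBit _ fun i hi => by rw [testBit_mk, decide_eq_false (by omega)]; rfl

/-- the residues of a vector -/
noncomputable def rep (x : RuVec) : ℕ × ℕ :=
  (mk (fun k => decide (co x k % 2 = 1)) 56, mk (fun k => decide (2 ≤ co x k % 4)) 56)

theorem rep_spec (x : RuVec) : Rep x (rep x) := fun k hk => by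
  simp only [rep, v4, ind, testBit_mk, decide_eq_true hk, Bool.true_and]
  by_cases h1 : co x k % 2 = 1 <;> by_cases h2 : 2 ≤ co x k % 4 <;> simp [h1, h2] <;> omega

/-- force both components -/
noncomputable def force2 {β : Type} (o : ℕ × ℕ) (k : ℕ × ℕ → β) : β :=
  force o.1 fun a => force o.2 fun b => k (a, b)

theorem force2_eq {β : Type} (o : ℕ × ℕ) (k : ℕ × ℕ → β) : force2 o k = k o := by
  unfold force2; rw [force_eq, force_eq]

/-- addition modulo four -/
noncomputable def add4 (o p : ℕ × ℕ) : ℕ × ℕ :=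
  (Nat.xor o.1 p.1, Nat.xor (Nat.xor o.2 p.2) (Nat.land o.1 p.1))

theorem add4_spec (o p : ℕ × ℕ) (k : ℕ) : (4 : ℤ) ∣ v4 o k + v4 p k - v4 (add4 o p) k := by
  have h1 : (add4 o p).1 = o.1 ^^^ p.1 := rfl
  have h2 : (add4 o p).2 = (o.2 ^^^ p.2) ^^^ (o.1 &&& p.1) := rfl
  simp only [v4, ind, h1, h2, Nat.testBit_and, Nat.testBit_xor]
  cases o.1.testBit k <;> cases o.2.testBit k <;> cases p.1.testBit k <;> cases p.2.testBit k <;>
    decide

/-- sum modulo four of the entries selected by the bits of `c` -/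
noncomputable def sel4 (l : List (ℕ × ℕ)) : ℕ → ℕ × ℕ → ℕ × ℕ :=
  List.rec (motive := fun _ => ℕ → ℕ × ℕ → ℕ × ℕ) (fun _ acc => acc)
    (fun o _ ih c acc => force (Nat.shiftRight c 1) fun c' =>
      iteB (Nat.beq (Nat.land c 1) 1) (force2 (add4 o acc) fun acc' => ih c' acc') (ih c' acc)) l

/-- a subgroup containing all vectors divisible by four -/
def Has4 (S : AddSubgroup RuVec) : Prop := ∀ y : RuVec, (4 : ℤ) • y ∈ S

theorem Has4.of_dvd {S : AddSubgroup RuVec} (h : Has4 S) {x : RuVec}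
    (hx : ∀ k < 56, (4 : ℤ) ∣ co x k) : x ∈ S := by
  have : x = (4 : ℤ) • ofF fun k => co x k / 4 :=
    ext_co fun k hk => by rw [co_zsmul, co_ofF _ hk, Int.mul_ediv_cancel' (hx k hk)]
  rw [this]; exact h _

theorem Has4.congr {S : AddSubgroup RuVec} (h : Has4 S) {x y : RuVec} (hy : y ∈ S)
    (hx : ∀ k < 56, (4 : ℤ) ∣ co x k - co y k) : x ∈ S := by
  have : x - y ∈ S := h.of_dvd fun k hk => by rw [co_sub]; exact hx k hk
  simpa using S.add_mem this hy

/-- the residue class lies in `S` -/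
def In (S : AddSubgroup RuVec) (o : ℕ × ℕ) : Prop := ofF (v4 o) ∈ S

theorem Rep.mem {S : AddSubgroup RuVec} (h : Has4 S) {x : RuVec} {o : ℕ × ℕ} (hx : Rep x o) :
    x ∈ S ↔ In S o :=
  ⟨fun hS => h.congr hS fun k hk => by
      rw [co_ofF _ hk, ← dvd_neg, neg_sub]; exact hx k hk,
    fun hS => h.congr hS fun k hk => by rw [co_ofF _ hk]; exact hx k hk⟩

theorem In.add {S : AddSubgroup RuVec} (h : Has4 S) {o p : ℕ × ℕ} (ho : In S o) (hp : In S p) :
    In S (add4 o p) :=
  h.congr (S.add_mem ho hp) fun k hk => by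
    rw [co_add, co_ofF _ hk, co_ofF _ hk, co_ofF _ hk, ← dvd_neg, neg_sub]; exact add4_spec o p k

theorem in_zero (S : AddSubgroup RuVec) : In S (0, 0) := by
  have : ofF (v4 (0, 0)) = 0 := ext_co fun k hk => by rw [co_ofF _ hk, co_zero]; simp [v4, ind]
  unfold In; rw [this]; exact S.zero_mem

theorem in_sel4 {S : AddSubgroup RuVec} (h : Has4 S) {l : List (ℕ × ℕ)} (hl : ∀ o ∈ l, In S o)
    (c : ℕ) {acc : ℕ × ℕ} (ha : In S acc) : In S (sel4 l c acc) := by
  induction l generalizing c acc with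
  | nil => exact ha
  | cons o l ih =>
    have hl' : ∀ p ∈ l, In S p := fun p hp => hl p (List.mem_cons_of_mem _ hp)
    show In S (force (Nat.shiftRight c 1) fun c' => iteB (Nat.beq (Nat.land c 1) 1)
      (force2 (add4 o acc) fun acc' => sel4 l c' acc') (sel4 l c' acc))
    rw [force_eq]
    cases Nat.beq (Nat.land c 1) 1
    · rw [iteB_false]; exact ih hl' _ ha
    · rw [iteB_true, force2_eq]; exact ih hl' _ ((hl o List.mem_cons_self).add h ha)

/-- the reduction lemma -/
theorem red {y : ℕ → ℤ} {R w k : ℕ} (hk : k < 56) (hR : ∀ j < 56, R.testBit j = false → 2 ∣ y j)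
    (hw : w &&& R = 2 ^ k) (h : 2 ∣ dot (ind w) y) : 2 ∣ y k := by
  have hb : ∀ j, (w.testBit j && R.testBit j) = decide (k = j) := fun j => by
    rw [← Nat.testBit_and, hw, Nat.testBit_two_pow]
  unfold dot at h
  rw [← add_sum_erase _ _ (mem_range.2 hk)] at h
  have h1 : (2 : ℤ) ∣ ∑ j ∈ (range 56).erase k, ind w j * y j := by
    refine dvd_sum fun j hj => ?_
    have hj' := mem_erase.1 hj
    have := hb j
    rw [decide_eq_false (Ne.symm hj'.1)] at this
    cases hwj : w.testBit j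
    · rw [ind_of_false hwj]; simp
    · rw [hwj, Bool.true_and] at this
      exact Dvd.dvd.mul_left (hR j (mem_range.1 hj'.2) this) _
  have h2 := hb k
  rw [decide_eq_true rfl, Bool.and_eq_true] at h2
  rw [ind_of_true h2.1, one_mul] at h
  exact (dvd_add_left h1).1 h

end Cfsg.Agent.Spor.RuLat
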