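import Cfsg.Agent.Lib.Spor.RuL.Lat

/-!
Tools for the residue code of the Conway–Wales lattice: words, weights and syndromes.
-/

set_option autoImplicit false
set_option maxRecDepth 100000

namespace Cfsg.Agent.Spor.RuLat
open Cfsg Cfsg.Spor Cfsg.Agent.PG Finset

/-- exclusive or of the entries selected by the bits of `c` -/
noncomputable def xorL (l : List ℕ) : ℕ → ℕ → ℕ :=
  List.rec (motive := fun _ => ℕ → ℕ → ℕ) (fun _ acc => acc)
    (fun a _ ih c acc => force (Nat.shiftRight c 1) fun c' =>
      iteB (Nat.beq (Nat.land c 1) 1) (force (Nat.xor a acc) fun acc' => ih c' acc') (ih c' acc)) l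

theorem beq_land_one (c : ℕ) : Nat.beq (Nat.land c 1) 1 = c.testBit 0 := by
  show Nat.beq (c &&& 1) 1 = _
  rw [Nat.and_one_is_mod, Nat.testBit_zero]
  rcases Nat.mod_two_eq_zero_or_one c with h | h <;> rw [h] <;> rfl

theorem xorL_cons (a : ℕ) (l : List ℕ) (c acc : ℕ) : xorL (a :: l) c acc =
    if c.testBit 0 = true then xorL l (c >>> 1) (a ^^^ acc) else xorL l (c >>> 1) acc := by
  show force (Nat.shiftRight c 1) (fun c' => iteB (Nat.beq (Nat.land c 1) 1)
    (force (Nat.xor a acc) fun acc' => xorL l c' acc') (xorL l c' acc)) = _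
  rw [force_eq, beq_land_one]
  cases c.testBit 0
  · rw [iteB_false]; rfl
  · rw [iteB_true, force_eq]; rfl

theorem ind_shr (c k : ℕ) : ind (c >>> 1) k = ind c (k + 1) := by
  unfold ind; rw [Nat.testBit_shiftRight, Nat.add_comm]

theorem ind_xor (a b i : ℕ) : (2 : ℤ) ∣ ind (a ^^^ b) i - ind a i - ind b i := by
  unfold ind; rw [Nat.testBit_xor]
  cases a.testBit i <;> cases b.testBit i <;> decide

theorem xorL_spec (l : List ℕ) (c acc i : ℕ) : (2 : ℤ) ∣ ind (xorL l c acc) i - ind acc i -
    ∑ r ∈ range l.length, ind c r * ind (nthD 0 l r) i := by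
  induction l generalizing c acc with
  | nil => show (2 : ℤ) ∣ ind acc i - _ - _; simp
  | cons a l ih =>
    rw [xorL_cons, List.length_cons, sum_range_succ']
    have e : ∑ r ∈ range l.length, ind c (r + 1) * ind (nthD 0 (a :: l) (r + 1)) i =
        ∑ r ∈ range l.length, ind (c >>> 1) r * ind (nthD 0 l r) i :=
      sum_congr rfl fun r _ => by rw [ind_shr]; rfl
    rw [e, show nthD 0 (a :: l) 0 = a from rfl]
    split_ifs with h
    · have := ih (c >>> 1) (a ^^^ acc)
      have := ind_xor a acc i
      rw [ind_of_true h]; omega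
    · have := ih (c >>> 1) acc
      rw [ind_of_false (a := c) (by simpa using h)]; omega

theorem ind_cases (a k : ℕ) : ind a k = 0 ∨ ind a k = 1 := by
  unfold ind; cases a.testBit k <;> simp

theorem testBit_of_ind {a k : ℕ} (h : ind a k = 1) : a.testBit k = true := by
  unfold ind at h; cases e : a.testBit k <;> simp_all

theorem not_testBit_of_ind {a k : ℕ} (h : ind a k = 0) : a.testBit k = false := by
  unfold ind at h; cases e : a.testBit k <;> simp_all

def aL : List ℕ :=
  [0xd23ac618c08881, 0xaa1214eea06082, 0x50908266882884, 0xb28450c6e8c088, 0x245a444248a090,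
  0xa1896442848a0, 0xb47ed25060e8c0, 0xf09a3c00a900, 0x9a3ccc006a00, 0xa6f09a00cc00,
  0xcc566a00f000, 0xf09a3c00a90000, 0x9a3ccc006a0000, 0xa6f09a00cc0000, 0xcc566a00f00000,
  0xff000000, 0xff00000000, 0xff0000000000, 0xff000000000000]

theorem aL_eq : ∀ r < 19, nthD 0 aL r = (Bq r).1 := by decide +kernel

/-- the code word number `g` -/
noncomputable def word (g : ℕ) : ℕ := xorL aL g 0

theorem word_spec (g k : ℕ) :
    (2 : ℤ) ∣ ind (word g) k - ∑ r ∈ range 19, ind g r * ind (Bq r).1 k := by
  have := xorL_spec aL g 0 k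
  rw [ind_of_false (Nat.zero_testBit _), sub_zero, show aL.length = 19 from rfl,
    sum_congr rfl fun r hr => by rw [aL_eq r (mem_range.1 hr)]] at this
  exact this

/-- the odd entries of `x` are those in the mask `S` -/
def OddOn (x : RuVec) (S : ℕ) : Prop := ∀ k < 56, (2 : ℤ) ∣ co x k - ind S k

theorem exists_word {x : RuVec} (hx : x ∈ MM) : ∃ g < 2 ^ 19, OddOn x (word g) := by
  refine ⟨mk (fun r => decide (co x (piv r) % 2 = 1)) 19, mk_lt _ _, fun k hk => ?_⟩
  have h1 := res2 hx hk
  have h2 := word_spec (mk (fun r => decide (co x (piv r) % 2 = 1)) 19) k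
  have h3 : (2 : ℤ) ∣ ∑ r ∈ range 19, co x (piv r) * ind (Bq r).1 k -
      ∑ r ∈ range 19, ind (mk (fun r => decide (co x (piv r) % 2 = 1)) 19) r * ind (Bq r).1 k := by
    rw [← sum_sub_distrib]
    refine dvd_sum fun r hr => ?_
    rw [← sub_mul]
    refine Dvd.dvd.mul_right ?_ _
    simp only [ind, testBit_mk, decide_eq_true (mem_range.1 hr), Bool.true_and]
    by_cases h : co x (piv r) % 2 = 1 <;> simp [h] <;> omega
  omega

theorem word_dot {z : ℕ → ℤ} {y : RuVec} (hy : y ∈ MM) (h : ∀ k < 56, co y k = 2 * z k) (g : ℕ) :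
    (2 : ℤ) ∣ dot (ind (word g)) z := by
  have h1 : ∀ r < 19, (2 : ℤ) ∣ dot (ind (Bq r).1) z := by
    intro r hr
    have a1 := hy _ (Bq_mem hr)
    have a2 : dot (v4 (Bq r)) (co y) = 2 * dot (v4 (Bq r)) z := by
      unfold dot
      rw [mul_sum]
      exact sum_congr rfl fun k hk => by rw [h k (mem_range.1 hk)]; ring
    have a3 := dot_mod2 (Bq r) z
    omega
  have h2 : (2 : ℤ) ∣ dot (ind (word g)) z - ∑ r ∈ range 19, ind g r * dot (ind (Bq r).1) z := by
    unfold dot
    simp only [mul_sum]
    rw [sum_comm, ← sum_sub_distrib]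
    refine dvd_sum fun k _ => ?_
    simp only [← mul_assoc]
    rw [← sum_mul, ← sub_mul]
    exact Dvd.dvd.mul_right (word_spec g k) _
  have h3 : (2 : ℤ) ∣ ∑ r ∈ range 19, ind g r * dot (ind (Bq r).1) z :=
    dvd_sum fun r hr => Dvd.dvd.mul_left (h1 r (mem_range.1 hr)) _
  omega

/-! weights -/

/-- add up planes -/
noncomputable def wAcc (f : ℕ → ℕ) (acc : List ℕ) (n : ℕ) : List ℕ :=
  Nat.rec (motive := fun _ => List ℕ) acc (fun k ih => force (f k) fun c => addC ih c) n

theorem colVal_wAcc (f : ℕ → ℕ) (acc : List ℕ) (n i : ℕ) :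
    (colVal (wAcc f acc n) i : ℤ) = colVal acc i + ∑ k ∈ range n, ind (f k) i := by
  induction n with
  | zero => show (colVal acc i : ℤ) = _; simp
  | succ n ih =>
    show (colVal (force (f n) fun c => addC (wAcc f acc n) c) i : ℤ) = _
    rw [force_eq, colVal_addC, sum_range_succ]; push_cast; rw [ih, ind]; ring

theorem colVal_drop (S : List ℕ) (k i : ℕ) : colVal (S.drop k) i = colVal S i / 2 ^ k := by
  apply Nat.eq_of_testBit_eq
  intro j
  rw [Nat.testBit_div_two_pow, testBit_colVal, testBit_colVal, nthD_eq, nthD_eq]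
  simp [List.getD_eq_getElem?_getD, Nat.add_comm]

/-- the list of the first `n` values, forced, in continuation style -/
noncomputable def tabK {β : Type} (f : ℕ → ℕ) (n : ℕ) : List ℕ → (List ℕ → β) → β :=
  Nat.rec (motive := fun _ => List ℕ → (List ℕ → β) → β) (fun t k => k t)
    (fun n ih t k => force (f n) fun a => ih (a :: t) k) n

theorem tabK_eq {β : Type} (f : ℕ → ℕ) (n : ℕ) (t : List ℕ) (k : List ℕ → β) :
    tabK f n t k = k ((List.range n).map f ++ t) := by
  induction n generalizing t with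
  | zero => rfl
  | succ n ih =>
    show force (f n) (fun a => tabK f n (a :: t) k) = _
    rw [force_eq, ih, List.range_succ]; simp

theorem nthD_tab (f : ℕ → ℕ) {n i : ℕ} (h : i < n) :
    nthD 0 ((List.range n).map f ++ []) i = f i := by
  rw [nthD_eq, List.append_nil, List.getD_eq_getElem _ _ (by simpa using h)]; simp

theorem len_tab (f : ℕ → ℕ) (n : ℕ) : ((List.range n).map f ++ []).length = n := by simp

/-- the union of the singletons, forced -/
noncomputable def ptsF (l : List ℕ) : ℕ → ℕ :=
  List.rec (motive := fun _ => ℕ → ℕ) (fun d => d)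
    (fun a _ ih d => force (Nat.lor d (Nat.shiftLeft 1 a)) ih) l

theorem ptsF_spec {l : List ℕ} {d i : ℕ} (h : (ptsF l d).testBit i = true) :
    d.testBit i = true ∨ i ∈ l := by
  induction l generalizing d with
  | nil => exact Or.inl h
  | cons a l ih =>
    have h' : (force (d ||| Nat.shiftLeft 1 a) (ptsF l)).testBit i = true := h
    rw [force_eq] at h'
    rcases ih h' with h1 | h1
    · rw [Nat.testBit_or, Bool.or_eq_true, testBit_shl_one] at h1
      rcases h1 with h1 | h1
      · exact Or.inl h1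
      · exact Or.inr (h1 ▸ List.mem_cons_self)
    · exact Or.inr (List.mem_cons_of_mem _ h1)

/-- all words of weight at most 16 are in the list -/
noncomputable def lowB (cands : List ℕ) : Bool :=
  tabK (fun r => plane r 19) 19 [] fun pl => force (ivl 0 524288) fun F =>
    subB F (orAcc ((wAcc (fun k => xorL pl (colVal aL k) 0) [F, F, F, F] 56).drop 5)
      (ptsF cands 0))

theorem lowB_spec {cands : List ℕ} (h : lowB cands = true) {g : ℕ} (hg : g < 2 ^ 19)
    (hw : pc (word g) ≤ 16) : g ∈ cands := by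
  rw [lowB, tabK_eq, force_eq] at h
  have hF : (ivl 0 524288).testBit g = true := (testBit_ivl _ _ _).2 ⟨by omega, hg⟩
  have h1 := subB_spec h hF
  by_contra hn
  rw [← Bool.not_eq_false, orAcc_spec] at h1
  refine h1 ⟨?_, ?_⟩
  · rw [← Bool.not_eq_true]
    intro h2
    rcases ptsF_spec h2 with h3 | h3
    · simp at h3
    · exact hn h3
  · rw [colVal_drop]
    refine Nat.div_eq_of_lt ?_
    have h2 := colVal_wAcc (fun k => xorL ((List.range 19).map (fun r => plane r 19) ++ [])
      (colVal aL k) 0) [ivl 0 524288, ivl 0 524288, ivl 0 524288, ivl 0 524288] 56 g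
    have h3 : colVal [ivl 0 524288, ivl 0 524288, ivl 0 524288, ivl 0 524288] g = 15 := by
      simp only [colVal_cons, hF, colVal_nil]; rfl
    have h4 : ∑ k ∈ range 56, ind (xorL ((List.range 19).map (fun r => plane r 19) ++ [])
        (colVal aL k) 0) g = pc (word g) := by
      rw [pc_eq]
      refine sum_congr rfl fun k _ => ?_
      have a1 := xorL_spec ((List.range 19).map (fun r => plane r 19) ++ []) (colVal aL k) 0 g
      have a2 := xorL_spec aL g 0 k
      rw [len_tab] at a1
      rw [show aL.length = 19 from rfl] at a2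
      have a3 : ∑ r ∈ range 19, ind (colVal aL k) r *
          ind (nthD 0 ((List.range 19).map (fun r => plane r 19) ++ []) r) g =
          ∑ r ∈ range 19, ind g r * ind (nthD 0 aL r) k := by
        refine sum_congr rfl fun r hr => ?_
        rw [nthD_tab _ (mem_range.1 hr), mul_comm]
        simp only [ind, testBit_plane, testBit_colVal, decide_eq_true hg, Bool.true_and]
      rw [a3, ind_of_false (Nat.zero_testBit _)] at a1
      rw [ind_of_false (Nat.zero_testBit _)] at a2
      have b1 := ind_cases (xorL ((List.range 19).map (fun r => plane r 19) ++ [])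
        (colVal aL k) 0) g
      have b2 := ind_cases (word g) k
      unfold word at b2 ⊢
      omega
    rw [h3, h4] at h2
    omega

/-! subsets of columns -/

noncomputable def tls (p : List ℕ → ℕ → Bool) (cs : List ℕ) (q : ℕ) : Bool :=
  List.rec (motive := fun _ => Bool) true
    (fun c t r => andB (force (Nat.xor c q) fun q' => p t q') r) cs

/-- no subset of at most `w` entries has exclusive or `q` -/
noncomputable def noSol (w : ℕ) : List ℕ → ℕ → Bool :=
  Nat.rec (motive := fun _ => List ℕ → ℕ → Bool) (fun _ q => Bool.not (Nat.beq q 0))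
    (fun _ ih cs q => andB (Bool.not (Nat.beq q 0)) (tls ih cs q)) w

theorem tls_spec {p : List ℕ → ℕ → Bool} {w : ℕ}
    (hp : ∀ t q, p t q = true → ∀ Z, ∑ k ∈ range t.length, ind Z k ≤ w → xorL t Z q ≠ 0)
    {cs : List ℕ} {q : ℕ} (h : tls p cs q = true) (Z : ℕ)
    (hZ : ∑ k ∈ range cs.length, ind Z k ≤ w + 1) (e : xorL cs Z q = 0) :
    q = 0 ∧ ∀ k < cs.length, Z.testBit k = false := by
  induction cs generalizing Z with
  | nil => exact ⟨e, fun k hk => absurd hk (by simp)⟩
  | cons c t ih =>
    have h' : andB (force (c ^^^ q) fun q' => p t q') (tls p t q) = true := h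
    rw [andB_eq, Bool.and_eq_true, force_eq] at h'
    rw [List.length_cons, sum_range_succ', sum_congr rfl fun k _ => (ind_shr Z k).symm] at hZ
    rw [xorL_cons] at e
    split_ifs at e with hb
    · rw [ind_of_true hb] at hZ
      exact absurd e (hp _ _ h'.1 _ (by linarith))
    · have hb' : Z.testBit 0 = false := by simpa using hb
      rw [ind_of_false hb'] at hZ
      obtain ⟨a, b⟩ := ih h'.2 (Z >>> 1) (by linarith) e
      refine ⟨a, fun k hk => ?_⟩
      cases k with
      | zero => exact hb'
      | succ k =>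
        have := b k (by simpa using hk)
        rwa [Nat.testBit_shiftRight, Nat.add_comm] at this

theorem ne_of_not_beq {q : ℕ} (h : Bool.not (Nat.beq q 0) = true) : q ≠ 0 := by
  rintro rfl; simp at h

theorem xorL_zero (l : List ℕ) {Z : ℕ} (q : ℕ) (h : ∀ k < l.length, Z.testBit k = false) :
    xorL l Z q = q := by
  induction l generalizing Z with
  | nil => rfl
  | cons a l ih =>
    rw [xorL_cons, if_neg (by rw [h 0 (by simp)]; simp)]
    exact ih fun k hk => by
      rw [Nat.testBit_shiftRight, Nat.add_comm]; exact h _ (by simpa using hk)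

theorem noSol_spec (w : ℕ) : ∀ t q, noSol w t q = true → ∀ Z,
    ∑ k ∈ range t.length, ind Z k ≤ w → xorL t Z q ≠ 0 := by
  induction w with
  | zero =>
    intro t q h Z hZ
    rw [xorL_zero t q fun k hk => ?_]
    · exact ne_of_not_beq h
    · have h0 : ∀ k ∈ range t.length, 0 ≤ ind Z k := fun k _ => by
        rcases ind_cases Z k with a | a <;> omega
      have := single_le_sum h0 (mem_range.2 hk)
      have := h0 k (mem_range.2 hk)
      exact not_testBit_of_ind (by push_cast at hZ; omega)
  | succ w ih =>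
    intro t q h Z hZ e
    have h' : andB (Bool.not (Nat.beq q 0)) (tls (noSol w) t q) = true := h
    rw [andB_eq, Bool.and_eq_true] at h'
    exact ne_of_not_beq h'.1 (tls_spec ih h'.2 Z (by push_cast at hZ; exact hZ) e).1

/-- the positions of the entries congruent to two modulo four -/
noncomputable def twos (x : RuVec) : ℕ := mk (fun k => decide (co x k % 4 = 2)) 56

theorem ind_twos (x : RuVec) {k : ℕ} (hk : k < 56) :
    ind (twos x) k = if co x k % 4 = 2 then 1 else 0 := by
  simp only [ind, twos, testBit_mk, decide_eq_true hk, Bool.true_and]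
  split_ifs with h <;> simp [h]

theorem weight_le {x : RuVec} {S : ℕ} (h : OddOn x S) :
    (pc S : ℤ) + 4 * ∑ k ∈ range 56, ind (twos x) k ≤ ruNorm x := by
  rw [norm_eq, pc_eq, dot, mul_sum, ← sum_add_distrib]
  refine sum_le_sum fun k hk => ?_
  have h1 := h k (mem_range.1 hk)
  rw [ind_twos x (mem_range.1 hk)]
  generalize co x k = a at h1
  rcases ind_cases S k with e | e <;> rw [e] at h1 ⊢ <;> split_ifs with h2
  · have : 2 ≤ a ∨ a ≤ -2 := by omega
    rcases this with h | h <;> nlinarith
  · nlinarith [mul_self_nonneg a]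
  · omega
  · have : 1 ≤ a ∨ a ≤ -1 := by omega
    rcases this with h | h <;> nlinarith

theorem synd1 {x : RuVec} (hx : x ∈ MM) {S : ℕ} (h : OddOn x S) {y : ℕ × ℕ} (hy : In MM y)
    (hS : y.1 &&& S = 0) :
    (2 : ℤ) ∣ ∑ k ∈ range 56, ind (twos x) k * ind y.1 k + pc (y.2 &&& S) := by
  have h1 : (4 : ℤ) ∣ dot (v4 y) (co x) := by
    have h1 := dot_MM hy hx
    rwa [dot_congr (fun k hk => co_ofF _ hk) fun _ _ => rfl] at h1
  have h2 : (4 : ℤ) ∣ dot (v4 y) (co x) -
      2 * (∑ k ∈ range 56, ind (twos x) k * ind y.1 k + pc (y.2 &&& S)) := by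
    rw [pc_eq, dot, ← sum_add_distrib, mul_sum, ← sum_sub_distrib]
    refine dvd_sum fun k hk => ?_
    have a1 := h k (mem_range.1 hk)
    have a2 : (y.1.testBit k && S.testBit k) = false := by rw [← Nat.testBit_and, hS]; simp
    rw [ind_twos x (mem_range.1 hk)]
    simp only [v4, ind, Nat.testBit_and] at a1 ⊢
    generalize co x k = a at a1
    revert a1 a2
    cases y.1.testBit k <;> cases y.2.testBit k <;> cases S.testBit k <;> split_ifs <;> simp <;>
      omega
  omega

/-- the target of the syndrome equation -/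
noncomputable def qOf (ys : List (ℕ × ℕ)) (S : ℕ) : ℕ :=
  colVal (ys.map fun y => pc (Nat.land y.2 S)) 0

/-- the syndrome equation -/
theorem synd {x : RuVec} (hx : x ∈ MM) {S : ℕ} (h : OddOn x S) {ys : List (ℕ × ℕ)}
    (hy : ∀ y ∈ ys, In MM y) (hS : ∀ y ∈ ys, y.1 &&& S = 0) :
    xorL ((List.range 56).map (colVal (ys.map Prod.fst)) ++ []) (twos x) (qOf ys S) = 0 := by
  apply Nat.eq_of_testBit_eq
  intro j
  rw [Nat.zero_testBit]
  apply not_testBit_of_ind
  have a1 := xorL_spec ((List.range 56).map (colVal (ys.map Prod.fst)) ++ []) (twos x)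
    (qOf ys S) j
  have a2 := ind_cases (xorL ((List.range 56).map (colVal (ys.map Prod.fst)) ++ []) (twos x)
    (qOf ys S)) j
  rw [len_tab, sum_congr rfl fun k hk => by rw [nthD_tab _ (mem_range.1 hk)]] at a1
  have b1 : ∀ k, ind (colVal (ys.map Prod.fst) k) j = ind (nthD (0, 0) ys j).1 k := by
    intro k
    simp only [ind, testBit_colVal, nthD_eq, List.getD_eq_getElem?_getD, List.getElem?_map]
    cases ys[j]? <;> rfl
  have b2 : (2 : ℤ) ∣ ind (qOf ys S) j - pc ((nthD (0, 0) ys j).2 &&& S) := by
    have : nthD 0 (ys.map fun y => pc (Nat.land y.2 S)) j = pc ((nthD (0, 0) ys j).2 &&& S) := by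
      simp only [nthD_eq, List.getD_eq_getElem?_getD, List.getElem?_map]
      cases ys[j]?
      · show 0 = pc (0 &&& S); rw [Nat.zero_and]; decide +kernel
      · rfl
    rw [ind, qOf, testBit_colVal, this, Nat.testBit_zero]
    rcases Nat.mod_two_eq_zero_or_one (pc ((nthD (0, 0) ys j).2 &&& S)) with e | e <;>
      simp [e] <;> omega
  have b3 : (2 : ℤ) ∣ ∑ k ∈ range 56, ind (twos x) k * ind (nthD (0, 0) ys j).1 k +
      pc ((nthD (0, 0) ys j).2 &&& S) := by
    rcases nthD_mem_or (0, 0) ys j with e | e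
    · rw [e]; exact synd1 hx h (in_zero _) (Nat.zero_and _)
    · exact synd1 hx h (hy _ e) (hS _ e)
  simp only [b1] at a1
  omega

theorem in_selB (h : ℕ) : In MM (sel4 Bl h (0, 0)) :=
  in_sel4 has4_MM (fun o ho => gl_in o (List.mem_append_left _ ho)) _ (in_zero _)

/-- the residue class `g` contains no short vector -/
noncomputable def badB (e : List ℕ) : Bool :=
  force (word (nthD 0 e 0)) fun S => mapK (fun h => sel4 Bl h (0, 0)) (e.drop 1) fun ys =>
    andB (allL ys fun y => Nat.beq (Nat.land y.1 S) 0) (force (qOf ys S) fun q =>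
      force (Nat.div (Nat.sub 16 (pc S)) 4) fun w => iteB (Nat.beq w 0) (Bool.not (Nat.beq q 0))
        (tabK (colVal (ys.map Prod.fst)) 56 [] fun cs => noSol w cs q))

theorem badB_spec {e : List ℕ} (h : badB e = true) {x : RuVec} (hx : x ∈ MM)
    (ho : OddOn x (word (nthD 0 e 0))) : 16 < ruNorm x := by
  rw [badB, force_eq, mapK_eq, andB_eq, Bool.and_eq_true, force_eq, force_eq, tabK_eq] at h
  obtain ⟨h1, h2⟩ := h
  generalize word (nthD 0 e 0) = S at *
  by_contra hn
  have hw := weight_le ho
  have h3 : noSol ((16 - pc S) / 4) ((List.range 56).map (colVal (((e.drop 1).map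
      fun h => sel4 Bl h (0, 0)).map Prod.fst)) ++ [])
      (qOf ((e.drop 1).map fun h => sel4 Bl h (0, 0)) S) = true := by
    cases hb : Nat.beq (Nat.div (Nat.sub 16 (pc S)) 4) 0
    · rw [hb, iteB_false] at h2; exact h2
    · rw [hb, iteB_true] at h2
      rw [show (16 - pc S) / 4 = 0 from Nat.eq_of_beq_eq_true hb]; exact h2
  refine noSol_spec _ _ _ h3 (twos x) ?_ (synd hx ho (fun y hy => ?_) fun y hy =>
    Nat.eq_of_beq_eq_true (allL_spec h1 y hy))
  · rw [len_tab]
    have h0 : 0 ≤ ∑ k ∈ range 56, ind (twos x) k := sum_nonneg fun k _ => by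
      rcases ind_cases (twos x) k with a | a <;> omega
    omega
  · obtain ⟨a, _, rfl⟩ := List.mem_map.1 hy
    exact in_selB a

theorem zero_class (h : tabK (colVal (Bl.map Prod.fst)) 56 [] (fun cs => tls (noSol 3) cs 0) = true)
    {x : RuVec} (hx : x ∈ MM) (ho : OddOn x 0) (hn : ruNorm x ≤ 16) :
    ∀ k < 56, (4 : ℤ) ∣ co x k := by
  rw [tabK_eq] at h
  have hw := weight_le ho
  have h1 := synd hx ho (ys := Bl) (fun o ho => gl_in o (List.mem_append_left _ ho))
    fun y _ => Nat.and_zero _
  rw [show qOf Bl 0 = 0 by decide +kernel] at h1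
  have h2 := (tls_spec (noSol_spec 3) h (twos x) (by rw [len_tab]; omega) h1).2
  intro k hk
  have a1 := ho k hk
  have a2 := ind_twos x hk
  rw [ind_of_false (h2 k (by rw [len_tab]; exact hk))] at a2
  rw [ind_of_false (Nat.zero_testBit _)] at a1
  split_ifs at a2
  · omega
  · omega

end Cfsg.Agent.Spor.RuLat
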