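import Cfsg.Agent.Lib.Spor.RuL.Basic

/-!
The Conway–Wales lattice is the set of vectors whose inner products with an explicit list of
residues are divisible by four.
-/

set_option autoImplicit false
set_option maxRecDepth 100000

namespace Cfsg.Agent.Spor.RuLat
open Cfsg Cfsg.Spor Cfsg.Agent.PG Finset

def Bl : List (ℕ × ℕ) :=
  [(0xd23ac618c08881, 0xcc197b54257600), (0xaa1214eea06082, 0x38a7e7915eea68), (0x50908266882884,
  0x9e5793e067c49e), (0xb28450c6e8c088, 0x92e2787e593736), (0x245a444248a090, 0x6a044310d32e2e),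
  (0xa1896442848a0, 0xfcef0708f4614a), (0xb47ed25060e8c0, 0x7ac1b3f44ea3ac), (0xf09a3c00a900,
  0xc39d55ace56c6c), (0x9a3ccc006a00, 0xf77e1f0944873c), (0xa6f09a00cc00, 0x22ac42b7abc43c),
  (0xcc566a00f000, 0x819a8ea7839b94), (0xf09a3c00a90000, 0x2cc33f6884b87e), (0x9a3ccc006a0000,
  0x999e392e7763a8), (0xa6f09a00cc0000, 0xfa6f901919593a), (0xcc566a00f00000, 0x42247310156156),
  (0xff000000, 0xf80202eea4abf8), (0xff00000000, 0x4a195640f1febc), (0xff0000000000,
  0xf25c021aa4abbc), (0xff000000000000, 0x2b13025ba4abba)]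

def Tl : List ℕ :=
  [0x0, 0x0, 0x0, 0x0, 0x0, 0x0, 0x0, 0xff, 0x0, 0x0, 0x0, 0xf65, 0x0, 0x3356, 0x566a, 0x9559,
  0x0, 0x0, 0x0, 0xf003c, 0x0, 0x33006a, 0x560059, 0x95000f, 0x0, 0x300141e, 0x500032e,
  0x9001703, 0x11000541, 0x21001106, 0x4100127e, 0x8100060a, 0x0, 0x300141165, 0x500031233,
  0x900170300, 0x110005176a, 0x2100110600, 0x4100121459, 0x8100060565, 0x0, 0x30000110653,
  0x50000121448, 0x90000031271, 0x110000170377, 0x210000060541, 0x410000141150, 0x81000005170c,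
  0x0, 0x300000006002b, 0x5000000140050, 0x9000000120022, 0x1100000003004d, 0x2100000005005a,
  0x41000000110005, 0x8100000017004b]

def pivL : List ℕ :=
  [0, 1, 2, 3, 4, 5, 6, 8, 9, 10, 12, 16, 17, 18, 20, 24, 32, 40, 48]

def pinvL : List ℕ :=
  [0, 1, 2, 3, 4, 5, 6, 0, 7, 8, 9, 0, 10, 0, 0, 0, 11, 12, 13, 0, 14, 0, 0, 0, 15, 0, 0, 0, 0,
  0, 0, 0, 16, 0, 0, 0, 0, 0, 0, 0, 17, 0, 0, 0, 0, 0, 0, 0, 18, 0, 0, 0, 0, 0, 0, 0]

def PM : ℕ := 0x101010117177f
def NPM : ℕ := 0xfefefefee8e880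

def coL : List ℕ :=
  [0x41400c07a06240080468, 0x20018056803c0180288, 0xa380040051c1000401c9, 0xa3401c01b0a040180359,
  0xa1401406f9a2c0100269, 0x6180180471c200140731, 0x43000403d860400802d0, 0x42800000196180180048,
  0x428000002161801802b0, 0x428010038161800006a0, 0x61c004009161c0140538, 0x62c00405e842801800c9,
  0x400c005900400c0450, 0x20401c01694280180699, 0x1000080000100051, 0x4004018800401403f8,
  0x400c013100400c0308, 0x401c018800400c03f8, 0x10027100401c03f9, 0x0, 0x0, 0x0, 0x0, 0x0, 0x0,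
  0x0, 0x400003f80000000000, 0x0, 0x0, 0x0, 0x4387da56cc000bb05f55, 0x0, 0x1405a2210000f3f9c93,
  0x23c324998000040659ad, 0x614037256c0000899a6b, 0x0, 0x0, 0x0, 0x23022623220007f9c53e, 0x0,
  0x185bf4ccb00088259ae, 0x438371204a0004419a6e, 0x6147669027000b3a06fe, 0x0,
  0x82c00c52f50000023938, 0xe248e906c70022899a6b, 0x2288ea0a0800257259ad, 0x3a165c9760886942c3e,
  0x80621f9cb00883c61503, 0x630963185608a54b8f6d, 0xa28bc10a0108a7e04cae, 0x0,
  0xe103613f87000441a5ad, 0x62c014ebe7000003c3c6, 0xe2805c70f3000f3dfafe, 0x2382663156000d1d6a9b,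
  0xa340cb1a65000332c9c8, 0xc045447ca200091aa95b, 0x21839f86df000c4a969d, 0x0,
  0x23054a44b20009184925, 0x83c5121eb8002fb56295, 0xa002548610002a292bb3, 0x22222b8cf50881e4a486,
  0x6349ea450880f4eda6, 0x828d61452908ab898f36, 0xa04bbe0e8908a61dc615, 0x0,
  0x40c365a1df0004420856, 0x2c2af53a900284f9a36, 0x42c5a3ab14002d959260, 0xc32c8024e4088f62a4d8,
  0xc02231438a08814d5670, 0xc3cb0a379b08acdacc40, 0xc048cb905e08a36d3ee8]

def wdL : List (ℕ × List ℕ) :=
  [(1, []), (2, []), (3, []), (5, []), (6, []), (7, []), (8, []), (9, []), (10, []), (11, []),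
  (12, []), (13, []), (14, []), (15, []), (16, []), (17, []), (18, []), (19, []), (1, [0]), (1,
  [1]), (1, [2]), (1, [4]), (2, [0]), (2, [1]), (2, [2]), (2, [4]), (3, [0]), (3, [1]), (3, [2]),
  (3, [4]), (5, [0]), (5, [1]), (5, [2]), (5, [4]), (6, [0]), (6, [1]), (6, [2]), (6, [4]), (7,
  [4]), (5, [4, 4])]

def fwL : List (List ℕ) :=
  [[], [0], [3, 1, 0], [1], [3, 2, 0], [2], [1, 2, 0], [2, 1], [4, 4, 4, 4, 4, 4], [4, 4, 4, 4,
  4, 4, 0], [4, 4, 4, 4, 4, 4, 3, 1, 0], [4, 4, 4, 4, 4, 4, 1], [4, 4, 4, 4, 4, 4, 3, 2, 0], [4,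
  4, 4, 4, 4, 4, 2], [4, 4, 4, 4, 4, 4, 1, 2, 0], [4, 4, 4, 4, 4, 4, 2, 1], [4, 4, 4, 4, 4], [4,
  4, 4, 4, 4, 0], [4, 4, 4, 4, 4, 3, 1, 0], [4, 4, 4, 4, 4, 1], [4, 4, 4, 4, 4, 3, 2, 0], [4, 4,
  4, 4, 4, 2], [4, 4, 4, 4, 4, 1, 2, 0], [4, 4, 4, 4, 4, 2, 1], [4, 4, 4, 4], [4, 4, 4, 4, 0],
  [4, 4, 4, 4, 3, 1, 0], [4, 4, 4, 4, 1], [4, 4, 4, 4, 3, 2, 0], [4, 4, 4, 4, 2], [4, 4, 4, 4, 1,
  2, 0], [4, 4, 4, 4, 2, 1], [4, 4, 4], [4, 4, 4, 0], [4, 4, 4, 3, 1, 0], [4, 4, 4, 1], [4, 4, 4,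
  3, 2, 0], [4, 4, 4, 2], [4, 4, 4, 1, 2, 0], [4, 4, 4, 2, 1], [4, 4], [4, 4, 0], [4, 4, 3, 1,
  0], [4, 4, 1], [4, 4, 3, 2, 0], [4, 4, 2], [4, 4, 1, 2, 0], [4, 4, 2, 1], [4], [4, 0], [4, 3,
  1, 0], [4, 1], [4, 3, 2, 0], [4, 2], [4, 1, 2, 0], [4, 2, 1]]


noncomputable def Bq (r : ℕ) : ℕ × ℕ := nthD (0, 0) Bl r
noncomputable def Tq (k : ℕ) : ℕ := nthD 0 Tl k
noncomputable def piv (r : ℕ) : ℕ := nthD 0 pivL r
noncomputable def pinv (k : ℕ) : ℕ := nthD 0 pinvL k

/-- the generators -/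
def GL4 : List (ℕ × ℕ) := Bl ++ Tl.map fun t => (0, t)

/-- the explicit description of the lattice -/
def MM : AddSubgroup RuVec where
  carrier := {x | ∀ o ∈ GL4, (4 : ℤ) ∣ dot (v4 o) (co x)}
  zero_mem' := fun o _ => by rw [show dot (v4 o) (co 0) = 0 from (dotH _).map_zero]; simp
  add_mem' := fun ha hb o ho => by rw [dot_add]; exact dvd_add (ha o ho) (hb o ho)
  neg_mem' := fun ha o ho => by rw [dot_neg]; exact (ha o ho).neg_right

theorem has4_MM : Has4 MM := fun y o _ => by rw [dot_zsmul]; exact Dvd.intro _ rfl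

noncomputable def inMB (o : ℕ × ℕ) : Bool :=
  force2 o fun o => allL GL4 fun g => Nat.beq (Nat.mod (dot4 g o) 4) 0

theorem inMB_spec {x : RuVec} {o : ℕ × ℕ} (hx : Rep x o) (h : inMB o = true) : x ∈ MM := by
  intro g hg
  rw [inMB, force2_eq] at h
  have h1 : dot4 g o % 4 = 0 := Nat.eq_of_beq_eq_true (allL_spec h g hg)
  have h2 := hx.dot (v4 g)
  have h3 := dot4_spec g o
  omega

theorem nthD_mem {α : Type} (d : α) {l : List α} {i : ℕ} (h : i < l.length) : nthD d l i ∈ l := by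
  rw [nthD_eq, List.getD_eq_getElem _ _ h]; exact List.getElem_mem h

theorem Bq_mem {r : ℕ} (h : r < 19) : Bq r ∈ GL4 := List.mem_append_left _ (nthD_mem _ h)

theorem Tq_mem {k : ℕ} (h : k < 56) : (0, Tq k) ∈ GL4 :=
  List.mem_append_right _ (List.mem_map.2 ⟨_, nthD_mem _ h, rfl⟩)

theorem gl_in : ∀ o ∈ GL4, In MM o := by
  have h : allL GL4 inMB = true := by decide +kernel
  exact fun o ho => inMB_spec (rep_ofF o) (allL_spec h o ho)

theorem fact_piv : ∀ r < 19, piv r < 56 ∧ (Bq r).1 &&& PM = 2 ^ piv r ∧ pinv (piv r) = r := by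
  decide +kernel

theorem fact_pos : ∀ k < 56, NPM.testBit k = !PM.testBit k ∧
    (PM.testBit k = true → pinv k < 19 ∧ piv (pinv k) = k ∧ Tq k = 0) ∧
    (PM.testBit k = false → Tq k &&& NPM = 2 ^ k) := by
  decide +kernel

theorem v4_mod (o : ℕ × ℕ) (k : ℕ) : (2 : ℤ) ∣ v4 o k - ind o.1 k := by
  unfold v4; omega

theorem dot_mod2 (o : ℕ × ℕ) (z : ℕ → ℤ) : (2 : ℤ) ∣ dot (v4 o) z - dot (ind o.1) z := by
  unfold dot
  rw [← sum_sub_distrib]
  refine dvd_sum fun k _ => ?_
  rw [← sub_mul]; exact Dvd.dvd.mul_right (v4_mod o k) _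

theorem dot_T (t : ℕ) (z : ℕ → ℤ) : dot (v4 (0, t)) z = 2 * dot (ind t) z := by
  unfold dot
  rw [mul_sum]
  refine sum_congr rfl fun k _ => ?_
  simp only [v4, ind, Nat.zero_testBit]; simp; ring

/-- a vector of `MM` which is even at the pivots is even -/
theorem even_of_piv {y : RuVec} (hy : y ∈ MM) (h : ∀ r < 19, 2 ∣ co y (piv r)) :
    ∀ k < 56, 2 ∣ co y k := by
  have h1 : ∀ j < 56, NPM.testBit j = false → 2 ∣ co y j := by
    intro j hj hb
    obtain ⟨a, b, _⟩ := fact_pos j hj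
    rw [a] at hb
    obtain ⟨b1, b2, _⟩ := b (by simpa using hb)
    rw [← b2]; exact h _ b1
  intro k hk
  obtain ⟨a, _, c⟩ := fact_pos k hk
  cases hp : PM.testBit k
  · refine red hk h1 (c hp) ?_
    have := hy _ (Tq_mem hk)
    rw [dot_T] at this; omega
  · exact h1 k hk (by rw [a, hp]; rfl)

theorem ind_B {r r' : ℕ} (hr : r < 19) (hr' : r' < 19) :
    ind (Bq r).1 (piv r') = if r = r' then 1 else 0 := by
  obtain ⟨_, a, b⟩ := fact_piv r hr
  obtain ⟨_, a', b'⟩ := fact_piv r' hr'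
  have h1 : ((Bq r).1.testBit (piv r') && PM.testBit (piv r')) = decide (piv r = piv r') := by
    rw [← Nat.testBit_and, a, Nat.testBit_two_pow]
  have h2 : ((Bq r').1.testBit (piv r') && PM.testBit (piv r')) = decide (piv r' = piv r') := by
    rw [← Nat.testBit_and, a', Nat.testBit_two_pow]
  rw [decide_eq_true rfl, Bool.and_eq_true] at h2
  rw [h2.2, Bool.and_true] at h1
  split_ifs with e
  · rw [ind_of_true (by rw [h1, e]; simp)]
  · refine ind_of_false ?_
    rw [h1]; exact decide_eq_false fun e' => e (by rw [← b, ← b', e'])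

/-- the combination of the lifts with the given pivot entries -/
noncomputable def lift (x : RuVec) : RuVec := ∑ r ∈ range 19, co x (piv r) • ofF (v4 (Bq r))

theorem lift_mem {S : AddSubgroup RuVec} (h : ∀ o ∈ GL4, In S o) (x : RuVec) : lift x ∈ S :=
  S.sum_mem fun r hr => S.zsmul_mem (h _ (Bq_mem (mem_range.1 hr))) _

theorem co_lift (x : RuVec) {k : ℕ} (hk : k < 56) :
    (2 : ℤ) ∣ co (lift x) k - ∑ r ∈ range 19, co x (piv r) * ind (Bq r).1 k := by
  unfold lift
  rw [co_sum, ← sum_sub_distrib]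
  refine dvd_sum fun r _ => ?_
  rw [co_zsmul, co_ofF _ hk, ← mul_sub]; exact Dvd.dvd.mul_left (v4_mod _ _) _

theorem sub_lift_even {x : RuVec} (hx : x ∈ MM) : ∀ k < 56, 2 ∣ co (x - lift x) k := by
  refine even_of_piv (MM.sub_mem hx (lift_mem gl_in x)) fun r hr => ?_
  have h1 := co_lift x (fact_piv r hr).1
  rw [sum_congr rfl fun r' hr' => by rw [ind_B (mem_range.1 hr') hr]] at h1
  simp only [mul_ite, mul_one, mul_zero, sum_ite_eq', mem_range, hr, if_true] at h1
  rw [co_sub]; omega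

/-- the residues modulo two -/
theorem res2 {x : RuVec} (hx : x ∈ MM) {k : ℕ} (hk : k < 56) :
    (2 : ℤ) ∣ co x k - ∑ r ∈ range 19, co x (piv r) * ind (Bq r).1 k := by
  have h1 := sub_lift_even hx k hk
  have h2 := co_lift x hk
  rw [co_sub] at h1; omega

theorem MM_le {S : AddSubgroup RuVec} (h4 : Has4 S) (h : ∀ o ∈ GL4, In S o) : MM ≤ S := by
  intro x hx
  have hy : x - lift x ∈ MM := MM.sub_mem hx (lift_mem gl_in x)
  have he := sub_lift_even hx
  suffices x - lift x ∈ S by simpa using S.add_mem this (lift_mem h x)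
  generalize x - lift x = y at hy he
  let t : RuVec := ∑ k ∈ range 56, (co y k / 2) • ofF (v4 (0, Tq k))
  have ht : ∀ S : AddSubgroup RuVec, (∀ o ∈ GL4, In S o) → t ∈ S := fun S h =>
    S.sum_mem fun k hk => S.zsmul_mem (h _ (Tq_mem (mem_range.1 hk))) _
  have hco : ∀ j < 56, co t j = 2 * ∑ k ∈ range 56, co y k / 2 * ind (Tq k) j := by
    intro j hj
    simp only [t]
    rw [co_sum, mul_sum]
    refine sum_congr rfl fun k _ => ?_
    rw [co_zsmul, co_ofF _ hj]; simp only [v4, ind, Nat.zero_testBit]; simp; ring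
  have hw : y - t ∈ MM := MM.sub_mem hy (ht _ gl_in)
  let w : ℕ → ℤ := fun j => co y j / 2 - ∑ k ∈ range 56, co y k / 2 * ind (Tq k) j
  have hw2 : ∀ j < 56, co (y - t) j = 2 * w j := by
    intro j hj
    have := he j hj
    rw [co_sub, hco j hj]; simp only [w]; omega
  have h1 : ∀ j < 56, PM.testBit j = false → 2 ∣ w j := by
    intro j hj hb
    have : ∑ k ∈ range 56, co y k / 2 * ind (Tq k) j = co y j / 2 := by
      have hn : NPM.testBit j = true := by rw [(fact_pos j hj).1, hb]; rfl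
      have key : ∀ k < 56, PM.testBit k = false → (Tq k).testBit j = decide (k = j) := by
        intro k hk hp
        rw [← Nat.testBit_two_pow, ← (fact_pos k hk).2.2 hp, Nat.testBit_and, hn, Bool.and_true]
      rw [sum_eq_single_of_mem j (mem_range.2 hj), ind_of_true (by rw [key j hj hb]; simp), mul_one]
      intro k hk hne
      cases hp : PM.testBit k
      · rw [ind_of_false (by rw [key k (mem_range.1 hk) hp]; simpa using hne), mul_zero]
      · rw [((fact_pos k (mem_range.1 hk)).2.1 hp).2.2, ind_of_false (Nat.zero_testBit _), mul_zero]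
    simp only [w]; rw [this]; simp
  have h2 : ∀ j < 56, 2 ∣ w j := by
    intro j hj
    cases hp : PM.testBit j
    · exact h1 j hj hp
    · obtain ⟨b1, b2, _⟩ := (fact_pos j hj).2.1 hp
      refine red hj h1 (by rw [(fact_piv _ b1).2.1, b2]) (w := (Bq (pinv j)).1) ?_
      have a1 := hw _ (Bq_mem b1)
      have a2 : dot (v4 (Bq (pinv j))) (co (y - t)) = 2 * dot (v4 (Bq (pinv j))) w := by
        unfold dot
        rw [mul_sum]
        exact sum_congr rfl fun k hk => by rw [hw2 k (mem_range.1 hk)]; ring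
      have a3 := dot_mod2 (Bq (pinv j)) w
      omega
  refine h4.congr (ht S h) fun k hk => ?_
  have := h2 k hk
  rw [← co_sub, hw2 k hk]; omega

theorem dot_MM {x y : RuVec} (hx : x ∈ MM) (hy : y ∈ MM) : (4 : ℤ) ∣ dot (co x) (co y) := by
  have : MM ≤ (AddSubgroup.zmultiples (4 : ℤ)).comap (dotH (co y)) := by
    refine MM_le (fun z => ?_) fun o ho => ?_
    · rw [AddSubgroup.mem_comap, map_zsmul, Int.mem_zmultiples_iff]; exact Dvd.intro _ rfl
    · show dot (co y) (co (ofF (v4 o))) ∈ AddSubgroup.zmultiples (4 : ℤ)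
      rw [Int.mem_zmultiples_iff, dot_comm, dot_congr (fun k hk => co_ofF _ hk) fun _ _ => rfl]
      exact hy o ho
  have h := this hx
  rw [AddSubgroup.mem_comap, Int.mem_zmultiples_iff] at h
  rw [dot_comm]; exact h

theorem norm_MM {x : RuVec} (hx : x ∈ MM) : (8 : ℤ) ∣ ruNorm x := by
  let S : AddSubgroup RuVec :=
    { carrier := {x | x ∈ MM ∧ (8 : ℤ) ∣ ruNorm x}
      zero_mem' := ⟨MM.zero_mem, by rw [norm_zero']; simp⟩
      add_mem' := fun {a b} ha hb => ⟨MM.add_mem ha.1 hb.1, by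
        have := dot_MM ha.1 hb.1; have := ha.2; have := hb.2
        rw [norm_add]; omega⟩
      neg_mem' := fun ha => ⟨MM.neg_mem ha.1, by rw [norm_neg']; exact ha.2⟩ }
  have h : allL GL4 (fun o => decide (ruNorm (ofF (v4 o)) % 8 = 0)) = true := by decide +kernel
  refine (MM_le (S := S) (fun z => ⟨has4_MM z, ?_⟩) (fun o ho => ⟨gl_in o ho, ?_⟩) hx).2
  · rw [norm_zsmul]; omega
  · have := of_decide_eq_true (allL_spec h o ho); omega

/-! the monomial maps -/

/-- the five generating maps -/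
def opH (o : ℕ) : RuVec →+ RuVec where
  toFun x := if o = 0 then gI • x else if o = 1 then ruRj x else if o = 2 then ruRk x else
    if o = 3 then ruSign x else ruShift x
  map_zero' := by
    split_ifs
    · simp
    · funext p; simp only [ruRj]; split <;> simp
    · funext p; simp only [ruRk]; split <;> simp
    · funext p; simp [ruSign]
    · rfl
  map_add' x y := by
    split_ifs
    · simp
    · funext p; simp only [ruRj, Pi.add_apply]; split <;> ring
    · funext p; simp only [ruRk, Pi.add_apply]; split <;> ring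
    · funext p; simp only [ruSign, Pi.add_apply]; split_ifs <;> ring
    · rfl

/-- the same maps as functions -/
def opF (o : ℕ) (x : RuVec) : RuVec :=
  if o = 0 then gI • x else if o = 1 then ruRj x else if o = 2 then ruRk x else
    if o = 3 then ruSign x else ruShift x

theorem closed_of {S : AddSubgroup RuVec} (h1 : ∀ v ∈ ruTable, v ∈ S)
    (h2 : ∀ o < 5, ∀ v ∈ S, opF o v ∈ S) : ruLattice ≤ S :=
  sInf_le ⟨h1, fun v hv => ⟨h2 0 (by omega) v hv, h2 1 (by omega) v hv, h2 2 (by omega) v hv,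
    h2 3 (by omega) v hv, h2 4 (by omega) v hv⟩⟩

theorem table_mem {v : RuVec} (h : v ∈ ruTable) : v ∈ ruLattice :=
  AddSubgroup.mem_sInf.2 fun _ hL => hL.1 v h

theorem opF_mem (o : ℕ) {v : RuVec} (h : v ∈ ruLattice) : opF o v ∈ ruLattice := by
  refine AddSubgroup.mem_sInf.2 fun L hL => ?_
  obtain ⟨a, b, c, d, e⟩ := hL.2 v (AddSubgroup.mem_sInf.1 h L hL)
  unfold opF; split_ifs <;> assumption

theorem L_le_MM : ruLattice ≤ MM := by
  have h1 : allL ruTable (fun v => inMB (rep v)) = true := by decide +kernel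
  have h2 : allN 5 (fun o => allL GL4 fun g => inMB (rep (opF o (ofF (v4 g))))) = true := by
    decide +kernel
  refine closed_of (fun v hv => inMB_spec (rep_spec v) (allL_spec h1 v hv)) fun o ho v hv => ?_
  refine MM_le (S := MM.comap (opH o)) (fun z => ?_) (fun g hg => ?_) hv
  · rw [AddSubgroup.mem_comap, map_zsmul]; exact has4_MM _
  · exact inMB_spec (rep_spec _) (allL_spec (allN_spec h2 o ho) g hg)

/-- apply a word in the generating maps -/
noncomputable def wApp (w : List ℕ) (x : RuVec) : RuVec :=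
  List.rec (motive := fun _ => RuVec) x (fun o _ ih => opF o ih) w

theorem wApp_mem (w : List ℕ) {x : RuVec} (h : x ∈ ruLattice) : wApp w x ∈ ruLattice := by
  induction w with
  | nil => exact h
  | cons o w ih => exact opF_mem o ih

theorem tab_mem (t : ℕ) : nthD 0 ruTable t ∈ ruLattice := by
  rcases nthD_mem_or 0 ruTable t with h | h
  · rw [h]; exact ruLattice.zero_mem
  · exact table_mem h

/-- four times a unit vector -/
def fr (k : ℕ) : RuVec := ofF fun j => if j = k then 4 else 0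

theorem fr_mem {k : ℕ} (hk : k < 56) : fr k ∈ ruLattice := by
  have h : allN 56 (fun k => allN 56 fun j => decide (co (wApp (nthD [] fwL k)
      (nthD 0 ruTable 0)) j = if j = k then 4 else 0)) = true := by decide +kernel
  have : fr k = wApp (nthD [] fwL k) (nthD 0 ruTable 0) := ext_co fun j hj => by
    rw [fr, co_ofF _ hj, of_decide_eq_true (allN_spec (allN_spec h k hk) j hj)]
  rw [this]; exact wApp_mem _ (tab_mem 0)

theorem four_eq (y : RuVec) : (4 : ℤ) • y = ∑ k ∈ range 56, co y k • fr k :=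
  ext_co fun j hj => by
    rw [co_zsmul, co_sum, sum_eq_single_of_mem j (mem_range.2 hj), co_zsmul, fr, co_ofF _ hj,
      if_pos rfl, mul_comm]
    intro k _ hne
    rw [co_zsmul, fr, co_ofF _ hj, if_neg (Ne.symm hne), mul_zero]

theorem has4_L : Has4 ruLattice := fun y => by
  rw [four_eq]
  exact ruLattice.sum_mem fun k hk => ruLattice.zsmul_mem (fr_mem (mem_range.1 hk)) _

/-- map with forcing, in continuation style -/
noncomputable def mapK {α β : Type} (f : α → ℕ × ℕ) (l : List α) : (List (ℕ × ℕ) → β) → β :=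
  List.rec (motive := fun _ => (List (ℕ × ℕ) → β) → β) (fun k => k [])
    (fun a _ ih k => force2 (f a) fun o => ih fun r => k (o :: r)) l

theorem mapK_eq {α β : Type} (f : α → ℕ × ℕ) (l : List α) (k : List (ℕ × ℕ) → β) :
    mapK f l k = k (l.map f) := by
  induction l generalizing k with
  | nil => rfl
  | cons a l ih =>
    show force2 (f a) (fun o => mapK f l fun r => k (o :: r)) = _
    rw [force2_eq, ih]; rfl

theorem MM_le_L : MM ≤ ruLattice := by
  have h : mapK (fun w : ℕ × List ℕ => rep (wApp w.2 (nthD 0 ruTable w.1))) wdL (fun os =>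
      mapK (fun o => add4 o o) os fun os2 => allN 75 fun i =>
        decide (sel4 (os ++ os2) (nthD 0 coL i) (0, 0) = nthD (0, 0) GL4 i)) = true := by
    decide +kernel
  rw [mapK_eq, mapK_eq] at h
  refine MM_le has4_L fun o ho => ?_
  obtain ⟨i, hi, rfl⟩ := List.getElem_of_mem ho
  have hi' : i < 75 := hi
  have e := of_decide_eq_true (allN_spec h i hi')
  rw [nthD_eq (0, 0), List.getD_eq_getElem _ _ hi] at e
  rw [← e]
  have h1 : ∀ o ∈ wdL.map fun w : ℕ × List ℕ => rep (wApp w.2 (nthD 0 ruTable w.1)),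
      In ruLattice o := by
    intro o ho
    obtain ⟨w, _, rfl⟩ := List.mem_map.1 ho
    exact ((rep_spec _).mem has4_L).1 (wApp_mem _ (tab_mem _))
  refine in_sel4 has4_L (fun o ho => ?_) _ (in_zero _)
  rcases List.mem_append.1 ho with ho | ho
  · exact h1 o ho
  · obtain ⟨p, hp, rfl⟩ := List.mem_map.1 ho
    exact (h1 p hp).add has4_L (h1 p hp)

theorem L_eq : ruLattice = MM := le_antisymm L_le_MM MM_le_L

end Cfsg.Agent.Spor.RuLat
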