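import Cfsg.Agent.Lib.Spor.RuL.Aut
import Cfsg.Agent.Lib.Spor.Ru.Main

/-!
The automorphism group of the Conway–Wales lattice modulo scalars is the simple permutation
group of degree 4060 and order 145926144000.
-/

set_option autoImplicit false
set_option maxRecDepth 100000
set_option exponentiation.threshold 100000

namespace Cfsg.Agent.Spor.RuLat
open Cfsg Cfsg.Spor Cfsg.Agent.PG Finset
open Cfsg.Agent.Spor.Ru (A hA hlen)

/-- the lanes of the images of the real frame -/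
noncomputable def wL (cs : List ℕ) (k : ℕ) : ℕ :=
  iteB (Nat.beq (Nat.mod k 2) 0) (nthD 0 cs (Nat.div k 2)) (sh (nthD 0 cs (Nat.div k 2)))

theorem wL_even (cs : List ℕ) (m : ℕ) : wL cs (2 * m) = nthD 0 cs m := by
  show iteB (Nat.beq (2 * m % 2) 0) (nthD 0 cs (2 * m / 2)) _ = _
  rw [Nat.mul_mod_right, Nat.mul_div_cancel_left _ (by omega)]; rfl

theorem wL_odd (cs : List ℕ) (m : ℕ) : wL cs (2 * m + 1) = sh (nthD 0 cs m) := by
  show iteB (Nat.beq ((2 * m + 1) % 2) 0) _ (sh (nthD 0 cs ((2 * m + 1) / 2))) = _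
  rw [show (2 * m + 1) % 2 = 1 by omega, show (2 * m + 1) / 2 = m by omega]; rfl

noncomputable def orthB (cs : List ℕ) : Bool :=
  tabK (wL cs) 56 [] fun ws => force (lanes 0) fun B => allN 56 fun k =>
    force (nthD 0 ws k) fun c => andB (andB (bit B c) (decide (ruNorm (Y c) = 16)))
      (force (zeroM B (rowN (Yp PL c) 56 []) (PL ++ [])) fun Z => allN 56 fun l =>
        orB (Nat.beq l k) (bit Z (nthD 0 ws l)))

theorem orthB_spec {cs : List ℕ} (h : orthB cs = true) {k : ℕ} (hk : k < 56) :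
    (lanes 0).testBit (wL cs k) = true ∧ ∀ l < 56,
      dot (co (Y (wL cs k))) (co (Y (wL cs l))) = if l = k then 16 else 0 := by
  rw [orthB, tabK_eq, force_eq] at h
  have h1 := allN_spec h k hk
  simp only [force_eq, andB_eq, Bool.and_eq_true, bit_eq, decide_eq_true_eq,
    nthD_tab _ hk] at h1
  refine ⟨h1.1.1, fun l hl => ?_⟩
  split_ifs with e
  · rw [e, ← norm_eq, h1.1.2]
  · have h2 := allN_spec h1.2 l hl
    rw [orB_eq, Bool.or_eq_true, nthD_tab _ hl] at h2
    rcases h2 with h2 | h2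
    · exact absurd (Nat.eq_of_beq_eq_true h2) e
    · have h3 := (zeroM_spec.1 h2).2
      rw [lin_PL, show lin [] [] _ = 0 from rfl, add_zero] at h3
      rw [dot_congr (fun k hk => co_Y _ hk) fun _ _ => rfl]; exact h3

/-- intersect the conditions -/
noncomputable def andZ (f : ℕ → ℕ → ℕ) (B n : ℕ) : ℕ :=
  Nat.rec (motive := fun _ => ℕ) B (fun l ih => force ih fun b => f l b) n

theorem andZ_spec {f : ℕ → ℕ → ℕ} {Q : ℕ → Prop} {i : ℕ}
    (hf : ∀ l b, (f l b).testBit i = true → b.testBit i = true ∧ Q l) {B n : ℕ}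
    (h : (andZ f B n).testBit i = true) : B.testBit i = true ∧ ∀ l < n, Q l := by
  induction n with
  | zero => exact ⟨h, fun l hl => absurd hl (by omega)⟩
  | succ n ih =>
    have h' : (force (andZ f B n) fun b => f n b).testBit i = true := h
    rw [force_eq] at h'
    obtain ⟨a, b⟩ := hf _ _ h'
    refine ⟨(ih a).1, fun l hl => ?_⟩
    rcases Nat.lt_succ_iff_lt_or_eq.1 hl with h1 | rfl
    · exact (ih a).2 l h1
    · exact b

/-- permute the first block of a plane and repeat it four times -/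
noncomputable def pf (j v : ℕ) : ℕ :=
  force (Nat.land (papp1 A [gw j] (Nat.land v (ivl 0 4096))) (ivl 0 4096)) (repl 4096 4)

theorem testBit_pf {j u i : ℕ} (hj : j < 12) (hu : u < 4) (hi : i < 4096) (v : ℕ) :
    (pf j v).testBit (u * 4096 + i) = v.testBit (gp A j i) := by
  rw [pf, force_eq, testBit_repl (fun i hi => ?_) _ _ _ hi, decide_eq_true hu, Bool.true_and]
  · show (papp1 A [gw j] (v &&& ivl 0 4096) &&& ivl 0 4096).testBit i = _
    rw [Nat.testBit_and, (testBit_ivl _ _ _).2 ⟨Nat.zero_le _, hi⟩, Bool.and_true,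
      testBit_papp1 hA, pp_cons, pp_nil, mul_one, sp_gw A (by omega), Nat.testBit_and,
      (testBit_ivl 0 4096 _).2 ⟨Nat.zero_le _, (supp_gp hA j).lt hi⟩, Bool.and_true]
  · have h : (papp1 A [gw j] (v &&& ivl 0 4096) &&& ivl 0 4096).testBit i = true := hi
    rw [Nat.testBit_and, Bool.and_eq_true, testBit_ivl] at h
    exact h.2.2

noncomputable def actB (j : ℕ) (cs : List ℕ) : Bool :=
  tabK (wL cs) 56 [] fun ws => force (andZ (fun l b =>
    zeroM b (rowN (fun k => Yp PL (nthD 0 ws k) l) 56 [-4, 4])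
      (PL ++ [mapF (pf j) (nthD [] PL (2 * l)), mapF (pf j) (nthD [] PL (2 * l + 1))]))
    (lanes 0) 56) fun Z => subB (ivl 0 4060) (Nat.lor (Nat.lor Z (Nat.shiftRight Z 4096))
      (Nat.lor (Nat.shiftRight Z 8192) (Nat.shiftRight Z 12288)))

theorem actB_spec {j : ℕ} (hj : j < 12) {cs : List ℕ} (h : actB j cs = true) {i : ℕ}
    (hi : i < 4060) : ∃ u < 4, ∀ l < 56, dot (fun k => co (Y (wL cs k)) l) (co (Y (u * 4096 + i))) =
      4 * co (Y (gp A j i)) l := by
  rw [actB, tabK_eq, force_eq] at h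
  generalize hZ : andZ _ _ _ = Z at h
  have h1 : ((Z ||| Z >>> 4096) ||| (Z >>> 8192 ||| Z >>> 12288)).testBit i = true :=
    subB_spec h ((testBit_ivl _ _ _).2 ⟨Nat.zero_le _, hi⟩)
  have h2 : ∃ u < 4, Z.testBit (u * 4096 + i) = true := by
    simp only [Nat.testBit_or, Bool.or_eq_true, Nat.testBit_shiftRight] at h1
    rcases h1 with (h1 | h1) | h1 | h1
    · exact ⟨0, by omega, by rwa [Nat.zero_mul, Nat.zero_add]⟩
    · exact ⟨1, by omega, h1⟩
    · exact ⟨2, by omega, h1⟩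
    · exact ⟨3, by omega, h1⟩
  obtain ⟨u, hu, h3⟩ := h2
  rw [← hZ] at h3
  refine ⟨u, hu, fun l hl => ?_⟩
  have h4 := (andZ_spec (fun l b hb => zeroM_spec.1 hb) h3).2 l hl
  rw [lin_PL, lin_cons, lin_cons, colVal_mapF (testBit_pf hj hu (by omega)),
    colVal_mapF (testBit_pf hj hu (by omega)), show lin [] [] _ = 0 from rfl,
    dot_congr (f' := fun k => co (Y (wL cs k)) l)
      (fun k hk => by rw [nthD_tab _ hk, co_Y _ hl]) fun _ _ => rfl] at h4
  rw [co_Y _ hl, Yp]
  omega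

theorem stab_B : K A 0 ≤ stabB (ivl 0 4060) :=
  K_le_stabB hA (by rw [hlen]; omega) (by decide +kernel)

theorem mem_B {σ : Equiv.Perm ℕ} (hσ : σ ∈ K A 0) (i : ℕ) :
    σ i ∈ bset (ivl 0 4060) ↔ i ∈ bset (ivl 0 4060) := by
  show (ivl 0 4060).testBit (σ i) = true ↔ (ivl 0 4060).testBit i = true
  rw [mem_stabB.1 (stab_B hσ) i]

theorem lanes_of_lt {u i : ℕ} (hu : u < 4) (hi : i < 4060) :
    (lanes 0).testBit (u * 4096 + i) = true := (testBit_lanes _ _).2 (by omega)

theorem lanes_of_lt' {i : ℕ} (hi : i < 4060) : (lanes 0).testBit i = true :=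
  (testBit_lanes _ _).2 (by omega)

open Pointwise

theorem acts_gen {j : ℕ} (hj : j < 12) {cs : List ℕ} (h1 : orthB cs = true)
    (h2 : actB j cs = true) :
    ∃ g : G, Acts (fun i => line (y i)) (bset (ivl 0 4060)) g (gp A j) := by
  have hW : ∀ m < 28, Y (wL cs (2 * m)) = Y (nthD 0 cs m) ∧
      Y (wL cs (2 * m + 1)) = gI • Y (nthD 0 cs m) := by
    intro m hm
    have := (orthB_spec h1 (k := 2 * m) (by omega)).1
    rw [wL_even, testBit_lanes] at this
    rw [wL_even, wL_odd, Y_sh this.1]; exact ⟨rfl, rfl⟩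
  have hσ : ∀ i < 4060, gp A j i < 4060 := fun i hi =>
    (mem_bset_ivl.1 ((mem_B (gp_mem_K A (Nat.zero_le j)) i).2 (mem_bset_ivl.2
      ⟨Nat.zero_le _, hi⟩))).2
  have hF : ∀ i < 4060, ∃ u < 4, Fm (fun m => Y (nthD 0 cs m)) (Y (u * 4096 + i)) =
      (4 : ℤ) • Y (gp A j i) := fun i hi =>
    (actB_spec hj h2 hi).imp fun u hu => ⟨hu.1, ext_co fun l hl => by
      rw [co_Fm (W := fun k => Y (wL cs k)) hW, hu.2 l hl, co_zsmul]⟩
  obtain ⟨g, hg⟩ := exists_gen (c := fun m => Y (nthD 0 cs m)) (fun x hx hn => by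
      obtain ⟨t, ht, e⟩ := classify (L_le_MM hx) hn.le (by
        intro e; rw [e, norm_zero'] at hn; omega)
      have hI : ∀ x, (∃ z ∈ ruLattice, Fm (fun m => Y (nthD 0 cs m)) x = (4 : ℤ) • z) →
          ∃ z ∈ ruLattice, Fm (fun m => Y (nthD 0 cs m)) (gI • x) = (4 : ℤ) • z := by
        rintro x ⟨z, hz, e⟩
        exact ⟨_, gI_smul_mem_ruLattice hz, by rw [Fm_I, e, smul_comm]⟩
      have hR := fun u i => lane_ind (R := fun t =>
          ∃ z ∈ ruLattice, Fm (fun m => Y (nthD 0 cs m)) (Y t) = (4 : ℤ) • z) (u := u) (i := i)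
        (fun t ht => by
          rw [Y_sh ((testBit_lanes _ _).1 ht).1]
          refine ⟨fun h => ?_, hI _⟩
          have := hI _ (hI _ (hI _ h))
          rwa [gI_gI, gI_gI, neg_neg] at this)
      rw [testBit_lanes] at ht
      obtain ⟨u, hu, e'⟩ := hF (t % 4096) ht.2.2
      rw [e, ← Nat.div_add_mod' t 4096, hR _ _ (by omega) ht.2.2, ← hR u _ hu ht.2.2]
      exact ⟨_, MM_le_L (Y_mem (lanes_of_lt' (hσ _ ht.2.2))), e'⟩)
    (norm_Fm (W := fun k => Y (wL cs k)) hW fun k hk => (orthB_spec h1 hk).2)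
  refine ⟨g, mem_B (gp_mem_K A (Nat.zero_le j)), fun i hi => ?_⟩
  have hi' := (mem_bset_ivl.1 hi).2
  obtain ⟨u, hu, e⟩ := hF i hi'
  have h3 : g • y (u * 4096 + i) = y (gp A j i) := by
    refine Subtype.ext (smul_right_injective RuVec (show (4 : ℤ) ≠ 0 by norm_num) ?_)
    show (4 : ℤ) • _ = (4 : ℤ) • _
    rw [hg, coe_y (lanes_of_lt hu hi'), e, coe_y (lanes_of_lt' (hσ i hi'))]
  show g • line (y i) = _
  rw [← line_lane hu hi', smul_line, h3]

def csL : List (List ℕ) :=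
  [[2254, 5223, 11628, 6108, 1323, 3911, 146, 4628, 910, 5687, 2155, 3613, 14673, 7884,
    3231, 3319, 13693, 5718, 14530, 3625, 14036, 9399, 13738, 12760, 2670, 8716, 14557, 7954],
   [0, 11466, 1095, 2961, 15844, 2807, 8704, 12617, 4244, 2422, 15466, 1879, 8917, 7773,
    1579, 7599, 10087, 3951, 13560, 13627, 10362, 2176, 398, 5574, 6732, 7749, 2585, 11954],
   [0, 10275, 5229, 1927, 4497, 7959, 3570, 1647, 15863, 2917, 7665, 7719, 9141, 14088,
    13447, 1453, 4933, 12393, 2529, 9732, 15947, 15161, 1536, 3949, 10565, 13036, 825, 4158],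
   [0, 9677, 9154, 12912, 8350, 13113, 14167, 11651, 5857, 10830, 10322, 13604, 3288, 7576,
    2127, 14194, 12842, 8718, 6839, 4356, 920, 9905, 14185, 3651, 10880, 1546, 10440, 4408],
   [0, 5221, 8100, 3040, 11010, 8734, 12052, 13099, 9531, 1655, 10818, 5797, 11917, 15301,
    5394, 4130, 5645, 1042, 7550, 7636, 8623, 10958, 14357, 6718, 4739, 203, 1306, 5657],
   [0, 1522, 12971, 4466, 8029, 7150, 13985, 3882, 11713, 6962, 8844, 13707, 1065, 1925,
    9708, 3828, 9348, 1142, 13420, 3540, 6133, 10942, 11727, 7112, 10955, 8588, 15757, 4116],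
   [0, 14944, 5614, 14636, 4955, 15470, 6239, 13812, 12460, 11151, 9456, 2460, 4592, 14645,
    11211, 8401, 5144, 5557, 12491, 1383, 3896, 4906, 12777, 14135, 14670, 14186, 3397, 1632],
   [0, 10815, 14287, 15969, 8981, 965, 6220, 14729, 8972, 13680, 2912, 2609, 7499, 16110,
    4949, 132, 4638, 14800, 13638, 6181, 11330, 11955, 145, 14077, 9063, 9482, 4140, 5230],
   [0, 12384, 6940, 1724, 15008, 13625, 16269, 2255, 14288, 13768, 1550, 11402, 6471, 12851,
    13141, 4008, 12128, 4142, 7235, 4121, 15147, 12126, 7202, 5835, 5109, 5815, 2455, 14871],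
   [0, 12331, 16225, 7138, 7974, 5173, 10254, 12845, 8788, 10718, 6502, 1536, 2835, 10401,
    5982, 9077, 9988, 8299, 7012, 8217, 11259, 15173, 5861, 16223, 1804, 5421, 11212, 5379],
   [0, 4106, 8523, 267, 8796, 12907, 11525, 15652, 10827, 1947, 2620, 14210, 6754, 6116,
    10181, 14979, 12507, 8193, 12443, 25, 4416, 4254, 208, 270, 642, 11483, 15554, 4771],
   [0, 4097, 4102, 24, 95, 12410, 12411, 108, 8427, 12522, 12508, 8399, 8511, 12620,
    8539, 12634, 4103, 8202, 8200, 25, 4098, 8201, 12299, 12310, 8636, 458, 12719, 4555]]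

theorem orth_ok (j : ℕ) (hj : j < 12) : orthB (nthD [] csL j) = true := by
  interval_cases j <;> decide +kernel

theorem act_ok (j : ℕ) (hj : j < 12) : actB j (nthD [] csL j) = true := by
  interval_cases j <;> decide +kernel

theorem acts_K : ∀ σ ∈ K A 0, ∃ g : G, Acts (fun i => line (y i)) (bset (ivl 0 4060)) g σ :=
  acts_K_of_gens fun j _ hj => acts_gen hj (orth_ok j hj) (act_ok j hj)

theorem norm_first {z : G} (hz : z ∈ ZZ) (v : L) :
    (((z • v : L) : RuVec) (idx 0)).norm = ((v : RuVec) (idx 0)).norm := by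
  obtain ⟨n, rfl⟩ := (mem_powers_iff_mem_zpowers (x := iota)).2 hz
  induction n with
  | zero => simp
  | succ n ih =>
    show (((iota ^ (n + 1) • v : L) : RuVec) (idx 0)).norm = _
    rw [pow_succ', mul_smul, iota_smul, ← ih (Subgroup.pow_mem _ (Subgroup.mem_zpowers _) n)]
    exact norm_gI_mul _

theorem line_zero {t : ℕ} (ht : t < 4060) (h : line (y 0) = line (y t)) : t = 0 := by
  have h1 : y t ∈ line (y 0) := h ▸ MulAction.mem_orbit_self _
  obtain ⟨z, hz⟩ := h1
  have h2 := norm_first z.2 (y 0)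
  rw [show (z : G) • y 0 = y t from hz, coe_y (lanes_of_lt' ht), coe_y (lanes_of_lt' (by omega)),
    Zsqrtd.norm_def, Zsqrtd.norm_def, ← co_even, ← co_even, ← co_odd, ← co_odd] at h2
  have h3 : ∀ t < 28, Yp PL t 0 = (if t = 0 then 4 else 0) ∧ Yp PL t 1 = 0 := by decide +kernel
  rw [co_Y 0 (by omega), co_Y 0 (by omega), (h3 0 (by omega)).1, (h3 0 (by omega)).2] at h2
  by_cases h4 : t < 28
  · by_contra h5
    rw [co_Y t (by omega), co_Y t (by omega), (h3 t h4).1, (h3 t h4).2, if_neg h5] at h2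
    simp at h2
  · have h5 : (lanes 28).testBit t = true := (testBit_lanes _ _).2 (by omega)
    rw [(Y_nf h5 (by omega)).1, (Y_nf h5 (by omega)).1] at h2
    exfalso
    revert h2
    rcases ind_cases (nthD (0, 0) PML (2 * 0)).1 t with a | a <;>
    rcases ind_cases (nthD (0, 0) PML (2 * 0)).2 t with b | b <;>
    rcases ind_cases (nthD (0, 0) PML (2 * 0 + 1)).1 t with c | c <;>
    rcases ind_cases (nthD (0, 0) PML (2 * 0 + 1)).2 t with d | d <;>
    rw [a, b, c, d] <;> simp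

theorem line_inj : Set.InjOn (fun i => line (y i)) (bset (ivl 0 4060)) := by
  intro i hi i' hi' e
  obtain ⟨a, ha, σ, hσ, _, rfl⟩ := cover_fix hA (gens := kgens A 0) (bs := []) (rs := [0])
    (r := 12) (B := ivl 0 4060) (by decide +kernel) hi
  obtain rfl : a = 0 := by simpa using ha
  obtain ⟨g, hg⟩ := acts_K σ hσ
  have h1 : σ⁻¹ i' ∈ bset (ivl 0 4060) := by rw [← hg.1]; simpa using hi'
  have h2 := hg.2 _ h1
  have h3 := hg.2 0 (mem_bset_ivl.2 (by omega))
  simp only [show σ (σ⁻¹ i') = i' by simp] at h2 h3 e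
  have h4 := line_zero (mem_bset_ivl.1 h1).2 (smul_left_cancel g (by rw [h3, h2, e]))
  rw [← h4]; simp

theorem iso_K : Nonempty (G ⧸ ZZ ≃* K A 0) := by
  have hb : ∀ i, i < 4060 → i ∈ bset (ivl 0 4060) := fun i hi => mem_bset_ivl.2 ⟨by omega, hi⟩
  refine iso_quot_of_acts acts_K line_inj (Ru.fixTriv0 ?_ ?_ ?_ ?_ ?_ ?_ ?_ ?_ ?_ ?_)
    (fun z hz i _ => ?_) ?_
  iterate 10 exact hb _ (by omega)
  · show z • line _ = _
    rw [smul_line, line_Z hz]
  · rw [Ru.card0, card_ZZ]; exact card_G_le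

theorem center_eq : Subgroup.center G = ZZ := by
  obtain ⟨e⟩ := iso_K
  have hs := Ru.simple0
  have hs' : IsSimpleGroup (G ⧸ ZZ) := e.isSimpleGroup
  refine le_antisymm (fun z hz => ?_) ZZ_le
  rcases hs'.eq_bot_or_eq_top_of_normal (Subgroup.center (G ⧸ ZZ)) inferInstance with h | h
  · rw [← QuotientGroup.eq_one_iff, ← Subgroup.mem_bot, ← h, Subgroup.mem_center_iff]
    intro q
    obtain ⟨g, rfl⟩ := QuotientGroup.mk_surjective q
    rw [← QuotientGroup.mk_mul, ← QuotientGroup.mk_mul, Subgroup.mem_center_iff.1 hz g]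
  · exfalso
    have hc : IsMulCommutative (G ⧸ ZZ) := ⟨⟨fun a b =>
      Subgroup.mem_center_iff.1 (h ▸ Subgroup.mem_top b) a⟩⟩
    have hp : (Nat.card (G ⧸ ZZ)).Prime := by
      letI : CommGroup (G ⧸ ZZ) := { mul_comm := hc.is_comm.comm }
      exact IsSimpleGroup.prime_card
    rw [Nat.card_congr e.toEquiv, Ru.card0] at hp
    exact absurd hp (by norm_num)

theorem iso_Ru : Nonempty (Cfsg.Spor.Ru ≃* K A 0) :=
  iso_K.map fun e => (QuotientGroup.quotientMulEquivOfEq center_eq).trans e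

end Cfsg.Agent.Spor.RuLat
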