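import Cfsg.Agent.Lib.Spor.RuL.Shape
import Cfsg.Agent.Lib.Spor.RuL.VecD

/-!
The classification of the minimal vectors of the Conway–Wales lattice.
-/

set_option autoImplicit false
set_option maxRecDepth 100000
set_option exponentiation.threshold 100000

namespace Cfsg.Agent.Spor.RuLat
open Cfsg Cfsg.Spor Cfsg.Agent.PG Finset

/-- coordinate `k` of lane `j` -/
noncomputable def Yp (P : List (List ℕ)) (j k : ℕ) : ℤ :=
  (colVal (nthD [] P (2 * k)) j : ℤ) - (colVal (nthD [] P (2 * k + 1)) j : ℤ)

/-- the vector in lane `j` -/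
noncomputable def Y (j : ℕ) : RuVec := ofF (Yp PL j)

theorem co_Y (j : ℕ) {k : ℕ} (hk : k < 56) : co (Y j) k = Yp PL j k := co_ofF _ hk

/-- force an integer -/
noncomputable def forceZ {β : Type} (a : ℤ) (k : ℤ → β) : β :=
  Int.rec (motive := fun _ => β) (fun m => force m fun m => k (Int.ofNat m))
    (fun m => force m fun m => k (Int.negSucc m)) a

theorem forceZ_eq {β : Type} (a : ℤ) (k : ℤ → β) : forceZ a k = k a := by
  cases a with
  | ofNat m => exact force_eq m fun m => k (Int.ofNat m)
  | negSucc m => exact force_eq m fun m => k (Int.negSucc m)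

/-- the row of a linear form -/
noncomputable def rowN (f : ℕ → ℤ) (n : ℕ) : List ℤ → List ℤ :=
  Nat.rec (motive := fun _ => List ℤ → List ℤ) (fun t => t)
    (fun n ih t => forceZ (f n) fun a => ih (a :: Int.neg a :: t)) n

theorem lin_rowN (f : ℕ → ℤ) (n : ℕ) (t : List ℤ) (P : List (List ℕ)) (j : ℕ)
    (h : 2 * n ≤ P.length) :
    lin (rowN f n t) P j = ∑ k ∈ range n, f k * Yp P j k + lin t (P.drop (2 * n)) j := by
  induction n generalizing t with
  | zero => show lin t P j = _; simp
  | succ n ih =>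
    show lin (forceZ (f n) fun a => rowN f n (a :: -a :: t)) P j = _
    rw [forceZ_eq, ih _ (by omega), List.drop_eq_getElem_cons (by omega : 2 * n < P.length),
      List.drop_eq_getElem_cons (by omega : 2 * n + 1 < P.length), lin_cons, lin_cons,
      sum_range_succ, Yp, nthD_eq, nthD_eq, List.getD_eq_getElem _ _ (by omega : 2 * n < P.length),
      List.getD_eq_getElem _ _ (by omega : 2 * n + 1 < P.length),
      show 2 * n + 1 + 1 = 2 * (n + 1) by ring]
    ring

theorem PL_len : PL.length = 112 := rfl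

theorem lin_PL (f : ℕ → ℤ) (t : List ℤ) (E : List (List ℕ)) (j : ℕ) :
    lin (rowN f 56 t) (PL ++ E) j = dot f (co (Y j)) + lin t E j := by
  rw [lin_rowN _ _ _ _ _ (by rw [List.length_append, PL_len]; omega),
    List.drop_left' (by rw [PL_len]), dot]
  refine congrArg (· + lin t E j) (sum_congr rfl fun k hk => ?_)
  have := mem_range.1 hk
  rw [co_Y j this, Yp, Yp, nthD_eq, nthD_eq, nthD_eq, nthD_eq,
    List.getD_append _ _ _ _ (by rw [PL_len]; omega), List.getD_append _ _ _ _ (by rw [PL_len]; omega)]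

/-- the lanes `4096 u + i` with `a ≤ i < 4060` -/
def lanes (a : ℕ) : ℕ :=
  Nat.lor (Nat.lor (ivl a 4060) (ivl (4096 + a) 8156))
    (Nat.lor (ivl (8192 + a) 12252) (ivl (12288 + a) 16348))

theorem testBit_lanes (a j : ℕ) :
    (lanes a).testBit j = true ↔ j < 16384 ∧ a ≤ j % 4096 ∧ j % 4096 < 4060 := by
  show ((ivl a 4060 ||| ivl (4096 + a) 8156) |||
    (ivl (8192 + a) 12252 ||| ivl (12288 + a) 16348)).testBit j = true ↔ _
  simp only [Nat.testBit_or, Bool.or_eq_true, testBit_ivl]
  omega

theorem Y_mem {j : ℕ} (hj : (lanes 0).testBit j = true) : Y j ∈ MM := by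
  have h : force (lanes 0) (fun B => allL GL4 fun o =>
      subB B (zero8M B (rowN (fun k => 2 * v4 o k) 56 []) (PL ++ []))) = true := by
    decide +kernel
  rw [force_eq] at h
  intro o ho
  have h1 := (zero8M_spec.1 (subB_spec (allL_spec h o ho) hj)).2
  rw [lin_PL] at h1
  have h2 : dot (fun k => 2 * v4 o k) (co (Y j)) = 2 * dot (v4 o) (co (Y j)) := by
    unfold dot; rw [mul_sum]; exact sum_congr rfl fun k _ => mul_assoc _ _ _
  have h3 : lin [] [] j = 0 := rfl
  omega

/-! multiplication by `i` -/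

/-- the lane of `i` times lane `j` -/
def sh (j : ℕ) : ℕ := Nat.mod (Nat.add j 4096) 16384

def rot (v : ℕ) : ℕ :=
  Nat.lor (Nat.shiftLeft (Nat.land v (ivl 0 12288)) 4096)
    (Nat.land (Nat.shiftRight v 12288) (ivl 0 4096))

theorem testBit_rot {j : ℕ} (hj : j < 16384) (v : ℕ) : (rot v).testBit (sh j) = v.testBit j := by
  show (((v &&& ivl 0 12288) <<< 4096) ||| ((v >>> 12288) &&& ivl 0 4096)).testBit
    ((j + 4096) % 16384) = _
  rw [Nat.testBit_or, Nat.testBit_shiftLeft, Nat.testBit_and, Nat.testBit_and,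
    Nat.testBit_shiftRight]
  by_cases h : j < 12288
  · have e : (j + 4096) % 16384 = j + 4096 := by omega
    have h1 : (ivl 0 4096).testBit (j + 4096) = false := by
      rw [← Bool.not_eq_true, testBit_ivl]; omega
    rw [e, h1, Nat.add_sub_cancel, (testBit_ivl _ _ _).2 ⟨Nat.zero_le _, h⟩]; simp
  · have e : (j + 4096) % 16384 = j - 12288 := by omega
    rw [e, decide_eq_false (by omega), (testBit_ivl 0 4096 _).2 ⟨by omega, by omega⟩,
      show 12288 + (j - 12288) = j by omega]; simp

theorem Y_sh {j : ℕ} (hj : j < 16384) : Y (sh j) = gI • Y j := by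
  have h : ∀ m < 28, nthD [] PL (2 * (2 * m)) = mapF rot (nthD [] PL (2 * (2 * m + 1) + 1)) ∧
      nthD [] PL (2 * (2 * m) + 1) = mapF rot (nthD [] PL (2 * (2 * m + 1))) ∧
      nthD [] PL (2 * (2 * m + 1)) = mapF rot (nthD [] PL (2 * (2 * m))) ∧
      nthD [] PL (2 * (2 * m + 1) + 1) = mapF rot (nthD [] PL (2 * (2 * m) + 1)) := by
    decide +kernel
  refine ext_co fun k hk => ?_
  obtain ⟨m, rfl | rfl⟩ := Nat.even_or_odd' k
  · obtain ⟨a, b, _, _⟩ := h m (by omega)
    rw [co_I_even, co_Y _ hk, co_Y _ (by omega), Yp, Yp, a, b, colVal_mapF (testBit_rot hj),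
      colVal_mapF (testBit_rot hj)]
    ring
  · obtain ⟨_, _, a, b⟩ := h m (by omega)
    rw [co_I_odd, co_Y _ hk, co_Y _ (by omega), Yp, Yp, a, b, colVal_mapF (testBit_rot hj),
      colVal_mapF (testBit_rot hj)]

theorem sh_lanes {j : ℕ} (hj : (lanes 0).testBit j = true) : (lanes 0).testBit (sh j) = true := by
  rw [testBit_lanes] at hj ⊢
  have : sh j = (j + 4096) % 16384 := rfl
  omega

/-! the frame -/

theorem Y_fr {k : ℕ} (hk : k < 56) : ((lanes 0).testBit (nthD 0 frP k) = true ∧
    Y (nthD 0 frP k) = fr k) ∧ (lanes 0).testBit (nthD 0 frM k) = true ∧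
    Y (nthD 0 frM k) = -fr k := by
  have h : allN 56 (fun k => force (nthD 0 frP k) fun a => force (nthD 0 frM k) fun b =>
      andB (andB (bit (lanes 0) a) (bit (lanes 0) b)) (allN 56 fun l =>
        decide (Yp PL a l = (if l = k then 4 else 0) ∧ Yp PL b l = -(if l = k then 4 else 0)))) =
      true := by decide +kernel
  have h1 := allN_spec h k hk
  rw [force_eq, force_eq, andB_eq, andB_eq, Bool.and_eq_true, Bool.and_eq_true, bit_eq,
    bit_eq] at h1
  have h2 := fun l hl => of_decide_eq_true (allN_spec h1.2 l hl)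
  refine ⟨⟨h1.1.1, ext_co fun l hl => ?_⟩, h1.1.2, ext_co fun l hl => ?_⟩
  · rw [co_Y _ hl, (h2 l hl).1, fr, co_ofF _ hl]
  · rw [co_Y _ hl, (h2 l hl).2, co_neg, fr, co_ofF _ hl]

theorem frame_case {x : RuVec} (h : ∀ k < 56, (4 : ℤ) ∣ co x k) (hn : ruNorm x ≤ 16) (h0 : x ≠ 0) :
    ∃ k < 56, x = fr k ∨ x = -fr k := by
  obtain ⟨k, hk, h1⟩ : ∃ k < 56, co x k ≠ 0 := by
    by_contra hc
    push Not at hc
    exact h0 (ext_co fun k hk => by rw [hc k hk, co_zero])
  obtain ⟨c, hc⟩ := h k hk
  have h2 : 16 ≤ co x k * co x k := by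
    have : 4 ≤ co x k ∨ co x k ≤ -4 := by omega
    rcases this with a | a <;> nlinarith
  have h3 : ∀ j < 56, j ≠ k → co x j = 0 := by
    intro j hj hne
    rw [norm_eq, dot, ← add_sum_erase _ _ (mem_range.2 hk)] at hn
    have := single_le_sum (f := fun k => co x k * co x k) (fun k _ => mul_self_nonneg _)
      (mem_erase.2 ⟨hne, mem_range.2 hj⟩)
    nlinarith [mul_self_nonneg (co x j)]
  have h4 := sq_le_norm x hk
  have h5 : co x k = 4 ∨ co x k = -4 := by
    have : co x k * co x k = 4 * 4 := by omega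
    exact mul_self_eq_mul_self_iff.1 this
  refine ⟨k, hk, h5.imp (fun a => ext_co fun j hj => ?_) fun a => ext_co fun j hj => ?_⟩
  · rw [fr, co_ofF _ hj]
    split_ifs with e
    · rw [e, a]
    · exact h3 j hj e
  · rw [co_neg, fr, co_ofF _ hj]
    split_ifs with e
    · rw [e, a]
    · rw [h3 j hj e]; rfl

/-! vectors with sixteen entries of absolute value one -/

theorem Y_nf {j : ℕ} (hj : (lanes 28).testBit j = true) {k : ℕ} (hk : k < 56) :
    co (Y j) k = ind (nthD (0, 0) PML k).1 j - ind (nthD (0, 0) PML k).2 j ∧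
      ((nthD (0, 0) PML k).1.testBit j && (nthD (0, 0) PML k).2.testBit j) = false := by
  have h : ∀ k < 56,
      nthD [] PL (2 * k) = [(nthD (0, 0) PML k).1, 0, Nat.shiftLeft 1 (nthD 0 frP k)] ∧
      nthD [] PL (2 * k + 1) = [(nthD (0, 0) PML k).2, 0, Nat.shiftLeft 1 (nthD 0 frM k)] ∧
      (nthD (0, 0) PML k).1 &&& (nthD (0, 0) PML k).2 = 0 ∧ nthD 0 frP k % 4096 < 28 ∧
      nthD 0 frM k % 4096 < 28 := by
    decide +kernel
  obtain ⟨a, b, c, d, e⟩ := h k hk
  rw [testBit_lanes] at hj
  have h1 : ∀ n, n % 4096 < 28 → (Nat.shiftLeft 1 n).testBit j = false := fun n hn => by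
    rw [← Bool.not_eq_true, testBit_shl_one]; omega
  refine ⟨?_, by rw [← Nat.testBit_and, c]; simp⟩
  rw [co_Y _ hk, Yp, a, b]
  simp only [colVal_cons, colVal_nil, h1 _ d, h1 _ e, Nat.zero_testBit, ind]
  simp

/-- the lanes with the given support -/
noncomputable def supF (l : List (ℕ × ℕ)) : ℕ → ℕ → ℕ :=
  List.rec (motive := fun _ => ℕ → ℕ → ℕ) (fun _ B => B)
    (fun q _ ih S B => force (Nat.land B (Nat.lor q.1 q.2)) fun C =>
      force (iteB (Nat.beq (Nat.land S 1) 1) C (Nat.xor B C)) fun B' =>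
        force (Nat.shiftRight S 1) fun S' => ih S' B') l

theorem supF_spec {l : List (ℕ × ℕ)} {S B j : ℕ} (h : (supF l S B).testBit j = true) :
    B.testBit j = true ∧ ∀ k < l.length,
      ((nthD (0, 0) l k).1.testBit j || (nthD (0, 0) l k).2.testBit j) = S.testBit k := by
  induction l generalizing S B with
  | nil => exact ⟨h, fun k hk => absurd hk (by simp)⟩
  | cons q l ih =>
    have h' : (force (B &&& (q.1 ||| q.2)) fun C =>
      force (iteB (Nat.beq (Nat.land S 1) 1) C (B ^^^ C)) fun B' =>
        force (S >>> 1) fun S' => supF l S' B').testBit j = true := h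
    rw [force_eq, force_eq, force_eq, beq_land_one] at h'
    obtain ⟨a, b⟩ := ih h'
    have c : B.testBit j = true ∧ (q.1.testBit j || q.2.testBit j) = S.testBit 0 := by
      revert a
      cases S.testBit 0
      · rw [iteB_false, Nat.testBit_xor, Nat.testBit_and, Nat.testBit_or]
        cases B.testBit j <;> simp
      · rw [iteB_true, Nat.testBit_and, Nat.testBit_or]
        cases B.testBit j <;> simp
    refine ⟨c.1, fun k hk => ?_⟩
    cases k with
    | zero => exact c.2
    | succ k =>
      have := b k (by simpa using hk)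
      rwa [Nat.testBit_shiftRight, Nat.add_comm] at this

/-- every sign pattern on `F` occurs -/
noncomputable def cover (l : List (ℕ × ℕ)) : ℕ → ℕ → Bool :=
  List.rec (motive := fun _ => ℕ → ℕ → Bool) (fun _ B => Bool.not (Nat.beq B 0))
    (fun q _ ih F B => iteB (Nat.beq F 0) (Bool.not (Nat.beq B 0))
      (force (Nat.shiftRight F 1) fun F' => iteB (Nat.beq (Nat.land F 1) 1)
        (andB (force (Nat.land B q.1) (ih F')) (force (Nat.land B q.2) (ih F'))) (ih F' B))) l

theorem cover_spec {l : List (ℕ × ℕ)} {F B : ℕ} (h : cover l F B = true) (s : ℕ → Bool) :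
    ∃ j, B.testBit j = true ∧ ∀ k < l.length, F.testBit k = true →
      (if s k = true then (nthD (0, 0) l k).1 else (nthD (0, 0) l k).2).testBit j = true := by
  induction l generalizing F B s with
  | nil =>
    obtain ⟨j, hj⟩ := Nat.exists_testBit_of_ne_zero (ne_of_not_beq h)
    exact ⟨j, hj, fun k hk => absurd hk (by simp)⟩
  | cons q l ih =>
    have h' : iteB (Nat.beq F 0) (Bool.not (Nat.beq B 0))
      (force (F >>> 1) fun F' => iteB (Nat.beq (Nat.land F 1) 1)
        (andB (force (B &&& q.1) (cover l F')) (force (B &&& q.2) (cover l F')))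
        (cover l F' B)) = true := h
    by_cases hF : F = 0
    · subst hF
      obtain ⟨j, hj⟩ := Nat.exists_testBit_of_ne_zero (ne_of_not_beq h')
      exact ⟨j, hj, fun k _ hk => by simp at hk⟩
    rw [beq_zero_false hF, iteB_false, force_eq, beq_land_one] at h'
    have key : ∀ B', cover l (F >>> 1) B' = true → (∀ j, B'.testBit j = true → B.testBit j = true ∧
        (F.testBit 0 = true → (if s 0 = true then q.1 else q.2).testBit j = true)) →
        ∃ j, B.testBit j = true ∧ ∀ k < (q :: l).length, F.testBit k = true →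
          (if s k = true then (nthD (0, 0) (q :: l) k).1 else
            (nthD (0, 0) (q :: l) k).2).testBit j = true := by
      intro B' h1 h2
      obtain ⟨j, a, b⟩ := ih h1 fun k => s (k + 1)
      refine ⟨j, (h2 j a).1, fun k hk hb => ?_⟩
      cases k with
      | zero => exact (h2 j a).2 hb
      | succ k =>
        exact b k (by simpa using hk) (by rwa [Nat.testBit_shiftRight, Nat.add_comm])
    cases hb : F.testBit 0
    · rw [hb, iteB_false] at h'
      exact key B h' fun j hj => ⟨hj, fun e => by rw [hb] at e; cases e⟩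
    · rw [hb, iteB_true, andB_eq, Bool.and_eq_true, force_eq, force_eq] at h'
      cases hs : s 0
      · refine key _ h'.2 fun j hj => ?_
        rw [Nat.testBit_and, Bool.and_eq_true] at hj
        exact ⟨hj.1, fun _ => by rw [hs]; exact hj.2⟩
      · refine key _ h'.1 fun j hj => ?_
        rw [Nat.testBit_and, Bool.and_eq_true] at hj
        exact ⟨hj.1, fun _ => by rw [hs]; exact hj.2⟩

/-- every position of `R'` is cut out of `R` by a code word -/
noncomputable def dual (R n : ℕ) : ℕ → ℕ → Bool :=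
  Nat.rec (motive := fun _ => ℕ → ℕ → Bool) (fun _ R' => Nat.beq R' 0)
    (fun _ ih e R' => iteB (Nat.beq R' 0) true (force (Nat.land (word e) R) fun t =>
      andB (Nat.beq t (Nat.shiftLeft 1 (Nat.log2 t))) (force (Nat.shiftRight e 19) fun e' =>
        force (Nat.xor R' t) fun R'' => ih e' R''))) n

theorem dual_spec {R n e R' : ℕ} (h : dual R n e R' = true) {k : ℕ} (hk : R'.testBit k = true) :
    ∃ g, word g &&& R = 2 ^ k := by
  induction n generalizing e R' with
  | zero => rw [show R' = 0 from Nat.eq_of_beq_eq_true h] at hk; simp at hk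
  | succ n ih =>
    have h' : iteB (Nat.beq R' 0) true (force (word e &&& R) fun t =>
      andB (Nat.beq t (Nat.shiftLeft 1 (Nat.log2 t))) (force (Nat.shiftRight e 19) fun e' =>
        force (R' ^^^ t) fun R'' => dual R n e' R'')) = true := h
    have hR : R' ≠ 0 := by rintro rfl; simp at hk
    rw [beq_zero_false hR, iteB_false, force_eq, andB_eq, Bool.and_eq_true, force_eq,
      force_eq] at h'
    have h1 := Nat.eq_of_beq_eq_true h'.1
    cases ht : (word e &&& R).testBit k
    · exact ih h'.2 (by rw [Nat.testBit_xor, hk, ht]; rfl)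
    · refine ⟨e, ?_⟩
      rw [h1, testBit_shl_one] at ht
      rw [h1, ← ht]; exact Nat.one_shiftLeft k

/-- the vectors in a residue class are listed -/
noncomputable def goodB (NF e : ℕ) : Bool :=
  force (word (Nat.land e 524287)) fun S =>
    force (Nat.land (Nat.shiftRight e 19) 0xffffffffffffff) fun F =>
      force (Nat.xor S (Nat.land S F)) fun R =>
        andB (dual R 12 (Nat.shiftRight e 75) R) (force (supF PML S NF) (cover PML F))

theorem unit_entries {x : RuVec} {S : ℕ} (ho : OddOn x S) (hS : pc S = 16) (hn : ruNorm x ≤ 16)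
    {k : ℕ} (hk : k < 56) : co x k * co x k = ind S k := by
  have h1 : ∀ k ∈ range 56, 0 ≤ co x k * co x k - ind S k := by
    intro k hk
    have h1 := ho k (mem_range.1 hk)
    generalize co x k = a at h1
    rcases ind_cases S k with e | e <;> rw [e] at h1 ⊢
    · nlinarith [mul_self_nonneg a]
    · have : 1 ≤ a ∨ a ≤ -1 := by omega
      rcases this with h | h <;> nlinarith
  have h2 : ∑ k ∈ range 56, (co x k * co x k - ind S k) = 0 := by
    refine le_antisymm ?_ (sum_nonneg h1)
    rw [sum_sub_distrib, ← pc_eq, hS]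
    rw [norm_eq, dot] at hn
    push_cast; omega
  have := (sum_eq_zero_iff_of_nonneg h1).1 h2 k (mem_range.2 hk)
  omega

theorem goodB_spec {e : ℕ} (h : goodB (lanes 28) e = true) {x : RuVec} (hx : x ∈ MM)
    (ho : OddOn x (word (Nat.land e 524287))) (hS : pc (word (Nat.land e 524287)) = 16)
    (hn : ruNorm x ≤ 16) : ∃ j, (lanes 0).testBit j = true ∧ x = Y j := by
  rw [goodB, force_eq, force_eq, force_eq, andB_eq, Bool.and_eq_true, force_eq] at h
  generalize word (Nat.land e 524287) = S at *
  generalize Nat.land (Nat.shiftRight e 19) 0xffffffffffffff = F at *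
  obtain ⟨j, hj, hF⟩ := cover_spec h.2 fun k => decide (co x k = 1)
  obtain ⟨hj1, hj2⟩ := supF_spec hj
  have hj0 : (lanes 0).testBit j = true := by rw [testBit_lanes] at hj1 ⊢; omega
  refine ⟨j, hj0, ?_⟩
  have hd : x - Y j ∈ MM := MM.sub_mem hx (Y_mem hj0)
  have key : ∀ k < 56, (co (x - Y j) k = 0 ∨ co (x - Y j) k = 2 ∨ co (x - Y j) k = -2) ∧
      ((Nat.xor S (Nat.land S F)).testBit k = false → co (x - Y j) k = 0) := by
    intro k hk
    have a1 := unit_entries ho hS hn hk
    obtain ⟨a2, a3⟩ := Y_nf hj1 hk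
    have a4 := hj2 k hk
    have a5 := hF k hk
    have a6 := testBit_sdiff S F k
    rw [co_sub, a2]
    simp only [ind] at a1 ⊢
    generalize co x k = a at *
    generalize (nthD (0, 0) PML k).1 = p at *
    generalize (nthD (0, 0) PML k).2 = m at *
    cases hs : S.testBit k
    · rw [hs] at a1 a4
      have : a = 0 := by simpa using a1
      rw [Bool.or_eq_false_iff] at a4
      rw [this, a4.1, a4.2]; simp
    · rw [hs] at a1 a4 a6
      have a7 : a = 1 ∨ a = -1 := mul_self_eq_one_iff.1 (by simpa using a1)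
      refine ⟨?_, fun hR => ?_⟩
      · revert a3 a4
        cases p.testBit j <;> cases m.testBit j <;> simp <;> omega
      · have a8 : F.testBit k = true := by
          rw [hR] at a6; simpa using a6
        have a9 := a5 a8
        rcases a7 with rfl | rfl
        · have b : p.testBit j = true := by simpa using a9
          rw [b, Bool.true_and] at a3
          rw [b, a3]; rfl
        · have b : m.testBit j = true := by simpa using a9
          rw [b, Bool.and_true] at a3
          rw [b, a3]; rfl
  refine sub_eq_zero.1 (ext_co fun k hk => ?_)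
  rw [co_zero]
  cases hR : (Nat.xor S (Nat.land S F)).testBit k
  · exact (key k hk).2 hR
  · obtain ⟨g, hg⟩ := dual_spec h.1 hR
    have h1 := red (y := fun k => co (x - Y j) k / 2) hk
      (fun i hi hb => by rw [(key i hi).2 hb]; simp) hg
      (word_dot hd (fun i hi => by have := (key i hi).1; omega) g)
    have := (key k hk).1
    omega

theorem mem_chunk {α : Type} {l : List α} {a : α} (ha : a ∈ l) {c : ℕ} (hc : 0 < c) :
    ∃ i, c * i < l.length ∧ a ∈ (l.drop (c * i)).take c := by
  obtain ⟨n, hn, rfl⟩ := List.getElem_of_mem ha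
  have h1 := Nat.div_add_mod n c
  have h2 := Nat.mod_lt n hc
  refine ⟨n / c, by omega, List.mem_iff_getElem.2 ⟨n % c, by simp; omega, ?_⟩⟩
  simp [h1]

theorem good_ok (i : ℕ) (hi : i < 60) :
    force (lanes 28) (fun NF => allL ((goodL.drop (16 * i)).take 16) (goodB NF)) = true := by
  interval_cases i <;> decide +kernel

/-- the classification of the minimal vectors -/
theorem classify {x : RuVec} (hx : x ∈ MM) (hn : ruNorm x ≤ 16) (h0 : x ≠ 0) :
    ∃ j, (lanes 0).testBit j = true ∧ x = Y j := by
  rcases shape hx hn with h | ⟨e, he, ho, hS⟩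
  · obtain ⟨k, hk, h | h⟩ := frame_case h hn h0
    · exact ⟨_, (Y_fr hk).1.1, by rw [h, (Y_fr hk).1.2]⟩
    · exact ⟨_, (Y_fr hk).2.1, by rw [h, (Y_fr hk).2.2]⟩
  · obtain ⟨i, hi, he'⟩ := mem_chunk he (c := 16) (by omega)
    have := good_ok i (by rw [show goodL.length = 952 by decide +kernel] at hi; omega)
    rw [force_eq] at this
    exact goodB_spec (allL_spec this e he') hx ho hS hn

end Cfsg.Agent.Spor.RuLat
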